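import Cfsg.Agent.Lib.Helper90.KW.Cent
import Cfsg.Agent.S0143

set_option autoImplicit false
set_option linter.unusedSectionVars false

/-!
# Wielandt's theorem: a product of two nilpotent subgroups of coprime orders is solvable
-/

namespace Cfsg.Agent.Helper90.KW

open scoped Pointwise

universe u

section
variable {G : Type*} [Group G] [Finite G]

theorem card_eq_of_prod {A B : Subgroup G} (hcop : (Nat.card A).Coprime (Nat.card B))
    (hprod : ∀ g : G, ∃ a ∈ A, ∃ b ∈ B, g = a * b) : Nat.card G = Nat.card A * Nat.card B := by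
  have h1 := Cfsg.Agent.Helper10.card_set_mul_mul_card_inf A B
  rw [(Subgroup.disjoint_of_coprime_natCard hcop).eq_bot, Subgroup.card_bot, mul_one] at h1
  rw [← h1]
  have : ((A : Set G) * (B : Set G) : Set G) = Set.univ := by
    ext g
    simp only [Set.mem_univ, iff_true]
    obtain ⟨h, hh, k, hk, rfl⟩ := hprod g
    exact Set.mul_mem_mul hh hk
  rw [this, Nat.card_congr (Equiv.Set.univ G)]

theorem card_dvd_mul_of_normal (A B M : Subgroup G) [hM : M.Normal]
    (hG : Nat.card G = Nat.card A * Nat.card B) :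
    Nat.card M ∣ Nat.card B * Nat.card (M ⊓ A : Subgroup G) := by
  have h1 := Cfsg.Agent.Helper10.card_set_mul_mul_card_inf A M
  rw [← Subgroup.mul_normal A M] at h1
  have h1' : Nat.card (A ⊔ M : Subgroup G) * Nat.card (A ⊓ M : Subgroup G) =
      Nat.card A * Nat.card M := h1
  have h2 : Nat.card (A ⊔ M : Subgroup G) ∣ Nat.card A * Nat.card B := by
    rw [← hG]
    exact Subgroup.card_subgroup_dvd_card _
  have h3 : Nat.card A * Nat.card M ∣ Nat.card A * (Nat.card B * Nat.card (M ⊓ A : Subgroup G)) := by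
    rw [← h1', ← mul_assoc, inf_comm]
    exact mul_dvd_mul_right h2 _
  exact Nat.dvd_of_mul_dvd_mul_left Nat.card_pos h3

/-- normal subgroups of a product of subgroups of coprime orders are factorized -/
theorem fac_of_normal {A B : Subgroup G} (M : Subgroup G) [hM : M.Normal]
    (hcop : (Nat.card A).Coprime (Nat.card B))
    (hprod : ∀ g : G, ∃ a ∈ A, ∃ b ∈ B, g = a * b) :
    ∀ g ∈ M, ∃ a ∈ M ⊓ A, ∃ b ∈ M ⊓ B, g = a * b := by
  have hG := card_eq_of_prod hcop hprod
  have h1 := card_dvd_mul_of_normal A B M hG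
  have h2 := card_dvd_mul_of_normal B A M (by rw [hG, mul_comm])
  have hxA : Nat.card (M ⊓ A : Subgroup G) ∣ Nat.card A := Subgroup.card_dvd_of_le inf_le_right
  have hyB : Nat.card (M ⊓ B : Subgroup G) ∣ Nat.card B := Subgroup.card_dvd_of_le inf_le_right
  have hxy : (Nat.card (M ⊓ A : Subgroup G)).Coprime (Nat.card (M ⊓ B : Subgroup G)) :=
    Nat.Coprime.coprime_dvd_left hxA (Nat.Coprime.coprime_dvd_right hyB hcop)
  obtain ⟨u, hu⟩ : Nat.card (M ⊓ A : Subgroup G) ∣ Nat.card M := Subgroup.card_dvd_of_le inf_le_left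
  obtain ⟨v, hv⟩ : Nat.card (M ⊓ B : Subgroup G) ∣ Nat.card M := Subgroup.card_dvd_of_le inf_le_left
  have huB : u ∣ Nat.card B := by
    rw [hu, mul_comm (Nat.card B)] at h1
    exact Nat.dvd_of_mul_dvd_mul_left Nat.card_pos h1
  have hvA : v ∣ Nat.card A := by
    rw [hv, mul_comm (Nat.card A)] at h2
    exact Nat.dvd_of_mul_dvd_mul_left Nat.card_pos h2
  have huv : u.Coprime v :=
    Nat.Coprime.coprime_dvd_left huB (Nat.Coprime.coprime_dvd_right hvA hcop.symm)
  have huy : u ∣ Nat.card (M ⊓ B : Subgroup G) := by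
    have : u ∣ Nat.card (M ⊓ B : Subgroup G) * v := by
      rw [← hv, hu]
      exact dvd_mul_left u _
    exact huv.dvd_of_dvd_mul_right this
  have hm : Nat.card M = Nat.card (M ⊓ A : Subgroup G) * Nat.card (M ⊓ B : Subgroup G) := by
    apply Nat.dvd_antisymm
    · rw [hu]
      exact mul_dvd_mul_left _ huy
    · exact hxy.mul_dvd_of_dvd_of_dvd ⟨u, hu⟩ ⟨v, hv⟩
  have h3 := Cfsg.Agent.Helper10.card_set_mul_mul_card_inf (M ⊓ A) (M ⊓ B)
  have h4 : (M ⊓ A) ⊓ (M ⊓ B) = ⊥ := by
    rw [eq_bot_iff, ← (Subgroup.disjoint_of_coprime_natCard hcop).eq_bot]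
    exact inf_le_inf inf_le_right inf_le_right
  rw [h4, Subgroup.card_bot, mul_one] at h3
  have hsub : ((M ⊓ A : Subgroup G) : Set G) * ((M ⊓ B : Subgroup G) : Set G) ⊆ (M : Set G) := by
    rintro _ ⟨a, ha, b, hb, rfl⟩
    exact M.mul_mem ha.1 hb.1
  have heq : ((M ⊓ A : Subgroup G) : Set G) * ((M ⊓ B : Subgroup G) : Set G) = (M : Set G) := by
    apply Set.eq_of_subset_of_ncard_le hsub _ (Set.toFinite _)
    rw [← Nat.card_coe_set_eq, ← Nat.card_coe_set_eq, h3]
    exact hm.le
  intro g hg
  have : g ∈ ((M ⊓ A : Subgroup G) : Set G) * ((M ⊓ B : Subgroup G) : Set G) := by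
    rw [heq]
    exact hg
  obtain ⟨a, ha, b, hb, rfl⟩ := Set.mem_mul.mp this
  exact ⟨a, ha, b, hb, rfl⟩

theorem two_primes_of_simple {A B : Subgroup G} (hB : Group.IsNilpotent B)
    (hcop : (Nat.card A).Coprime (Nat.card B))
    (hprod : ∀ g : G, ∃ a ∈ A, ∃ b ∈ B, g = a * b)
    (hsimple : ∀ N : Subgroup G, N.Normal → N = ⊥ ∨ N = ⊤) (hnsol : ¬ Group.IsSolvable G) :
    ∀ p : ℕ, p.Prime → p ∣ Nat.card A → ∃ q : ℕ, q.Prime ∧ q ≠ p ∧ q ∣ Nat.card A := by
  intro p hp hpA
  by_contra hno
  have hall : ∀ {d : ℕ}, d.Prime → d ∣ Nat.card A → d = p :=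
    fun {d} hd hdA => by_contra (fun hne => hno ⟨d, hd, hne, hdA⟩)
  have hpow := Nat.eq_prime_pow_of_unique_prime_dvd Nat.card_pos.ne' hall
  have hG := card_eq_of_prod hcop hprod
  have : Fact p.Prime := ⟨hp⟩
  have hntG : Nontrivial G := by
    by_contra h
    rw [not_nontrivial_iff_subsingleton] at h
    exact hnsol (Group.isSolvable_of_comm (fun a b => Subsingleton.elim _ _))
  have : IsSimpleGroup G := ⟨fun N hN => hsimple N hN⟩
  have hBnt : Nontrivial B := by
    by_contra h
    rw [not_nontrivial_iff_subsingleton] at h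
    have h1 : Nat.card B = 1 := Nat.card_eq_one_iff_unique.mpr ⟨h, ⟨1⟩⟩
    rw [h1, mul_one, hpow] at hG
    have hpg : IsPGroup p G := IsPGroup.of_card hG
    have := hpg.isNilpotent
    exact hnsol inferInstance
  obtain ⟨⟨z, hz⟩, hz1⟩ : ∃ z : Subgroup.center B, z ≠ 1 :=
    (Subgroup.ne_bot_iff_exists_ne_one).mp (Group.IsNilpotent.center_ne_bot (G := B))
  have hBle : B ≤ Subgroup.centralizer ({(z : G)} : Set G) := by
    intro b hb
    rw [Subgroup.mem_centralizer_singleton_iff]
    have := Subgroup.mem_center_iff.mp hz ⟨b, hb⟩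
    exact congrArg Subtype.val this
  have hidx : (Subgroup.centralizer ({(z : G)} : Set G)).index ∣ Nat.card A := by
    have h1 := Subgroup.index_dvd_of_le hBle
    have h2 : B.index = Nat.card A := by
      have := B.card_mul_index
      rw [hG, mul_comm] at this
      exact Nat.eq_of_mul_eq_mul_right Nat.card_pos this
    rwa [h2] at h1
  rw [hpow] at hidx
  obtain ⟨k, -, hk⟩ := (Nat.dvd_prime_pow hp).mp hidx
  have hz1' : (z : G) ≠ 1 := by
    intro h
    apply hz1
    apply Subtype.ext
    apply Subtype.ext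
    exact h
  have hprime := Cfsg.Agent.S0143.result p k hp (z : G) hz1' hk
  have : Fact (Nat.card G).Prime := ⟨hprime⟩
  have hcyc : IsCyclic G := isCyclic_of_prime_card rfl
  have hc : IsMulCommutative G := inferInstance
  exact hnsol (Group.isSolvable_of_comm (fun a b => hc.is_comm.comm a b))

end

theorem solvable_aux (n : ℕ) : ∀ (G : Type u) [Group G] [Finite G], Nat.card G = n →
    ∀ A B : Subgroup G, Group.IsNilpotent A → Group.IsNilpotent B →
    (Nat.card A).Coprime (Nat.card B) → (∀ g : G, ∃ a ∈ A, ∃ b ∈ B, g = a * b) →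
    Group.IsSolvable G := by
  induction n using Nat.strong_induction_on with
  | _ n ih =>
    intro G _ _ hn A B hA hB hcop hprod
    have ihL : ∀ (L A' B' : Subgroup G), L ≠ ⊤ → A' ≤ L → B' ≤ L → Group.IsNilpotent A' →
        Group.IsNilpotent B' → (Nat.card A').Coprime (Nat.card B') →
        (∀ g ∈ L, ∃ a ∈ A', ∃ b ∈ B', g = a * b) → Group.IsSolvable L := by
      intro L A' B' hL hA'L hB'L hA' hB' hcop' hfac
      have hlt : Nat.card L < n := by
        rw [← hn]
        by_contra h
        exact hL (Subgroup.eq_top_of_le_card L (not_lt.mp h))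
      exact ih (Nat.card L) hlt L rfl (A'.subgroupOf L) (B'.subgroupOf L)
        (Group.nilpotent_of_mulEquiv (Subgroup.subgroupOfEquivOfLe hA'L).symm)
        (Group.nilpotent_of_mulEquiv (Subgroup.subgroupOfEquivOfLe hB'L).symm)
        (by rw [card_subgroupOf_of_le hA'L, card_subgroupOf_of_le hB'L]; exact hcop')
        (by
          intro g
          obtain ⟨a, ha, b, hb, e⟩ := hfac g.1 g.2
          exact ⟨⟨a, hA'L ha⟩, Subgroup.mem_subgroupOf.mpr ha, ⟨b, hB'L hb⟩,
            Subgroup.mem_subgroupOf.mpr hb, Subtype.ext e⟩)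
    by_cases hex : ∃ M : Subgroup G, M.Normal ∧ M ≠ ⊥ ∧ M ≠ ⊤
    · obtain ⟨M, hMn, hMb, hMt⟩ := hex
      have hMsol : Group.IsSolvable M := ihL M (M ⊓ A) (M ⊓ B) hMt inf_le_left inf_le_left
        (isNilpotent_of_le hA inf_le_right) (isNilpotent_of_le hB inf_le_right)
        (Nat.Coprime.coprime_dvd_left (Subgroup.card_dvd_of_le inf_le_right)
          (Nat.Coprime.coprime_dvd_right (Subgroup.card_dvd_of_le inf_le_right) hcop))
        (fac_of_normal M hcop hprod)
      have hQlt : Nat.card (G ⧸ M) < n := by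
        rw [← hn, ← Subgroup.index_eq_card, ← M.card_mul_index]
        have h1 : 1 < Nat.card M := (Subgroup.one_lt_card_iff_ne_bot (H := M)).mpr hMb
        have h2 : 0 < M.index := Nat.pos_of_ne_zero Subgroup.index_ne_zero_of_finite
        nlinarith
      have hQsol : Group.IsSolvable (G ⧸ M) := by
        refine ih _ hQlt (G ⧸ M) rfl (A.map (QuotientGroup.mk' M)) (B.map (QuotientGroup.mk' M))
          ?_ ?_ ?_ ?_
        · exact Group.nilpotent_of_surjective ((QuotientGroup.mk' M).subgroupMap A)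
            ((QuotientGroup.mk' M).subgroupMap_surjective A)
        · exact Group.nilpotent_of_surjective ((QuotientGroup.mk' M).subgroupMap B)
            ((QuotientGroup.mk' M).subgroupMap_surjective B)
        · exact Nat.Coprime.coprime_dvd_left
            (Subgroup.card_dvd_of_surjective _ ((QuotientGroup.mk' M).subgroupMap_surjective A))
            (Nat.Coprime.coprime_dvd_right
              (Subgroup.card_dvd_of_surjective _ ((QuotientGroup.mk' M).subgroupMap_surjective B))
              hcop)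
        · intro g
          obtain ⟨g, rfl⟩ := QuotientGroup.mk'_surjective M g
          obtain ⟨a, ha, b, hb, rfl⟩ := hprod g
          exact ⟨_, Subgroup.mem_map_of_mem _ ha, _, Subgroup.mem_map_of_mem _ hb, map_mul _ a b⟩
      exact Group.isSolvable_of_ker_le_range M.subtype (QuotientGroup.mk' M)
        (by rw [QuotientGroup.ker_mk', Subgroup.range_subtype])
    · by_contra hnsol
      have hsimple : ∀ N : Subgroup G, N.Normal → N = ⊥ ∨ N = ⊤ := by
        intro N hN
        by_contra h
        rw [not_or] at h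
        exact hex ⟨N, hN, h.1, h.2⟩
      have c : Cfg A B :=
        { nilH := hA
          nilK := hB
          cop := hcop
          prod := hprod
          simple := hsimple
          nsol := hnsol
          ih := ihL
          twoH := two_primes_of_simple hB hcop hprod hsimple hnsol
          twoK := two_primes_of_simple hA hcop.symm (prod_symm hprod) hsimple hnsol }
      exact c.elim

/-- **Wielandt**: a finite group which is the product of two nilpotent subgroups of coprime orders
is solvable. -/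
theorem solvable_of_coprime_nilpotent {G : Type u} [Group G] [Finite G] (A B : Subgroup G)
    (hA : Group.IsNilpotent A) (hB : Group.IsNilpotent B)
    (hcop : (Nat.card A).Coprime (Nat.card B)) (hAB : ∀ g : G, ∃ a ∈ A, ∃ b ∈ B, g = a * b) :
    Group.IsSolvable G :=
  solvable_aux (Nat.card G) G rfl A B hA hB hcop hAB

end Cfsg.Agent.Helper90.KW
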