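import Mathlib
import Cfsg.Agent.Lib.Helper90.NilpCoverSylow
import Cfsg.Agent.Lib.Helper10.ProdCard

set_option autoImplicit false

/-!
# Kegel–Wielandt: basic API

Conjugates `MulAut.conj x • H`, the `p`-part `sylp H p` of a nilpotent subgroup, and elementary
facts on factorizations `G = HK`.
-/

namespace Cfsg.Agent.Helper90.KW

open scoped Pointwise

variable {G : Type*} [Group G]

theorem mem_conj {H : Subgroup G} {x g : G} :
    g ∈ (MulAut.conj x • H : Subgroup G) ↔ x⁻¹ * g * x ∈ H := by
  rw [Subgroup.mem_pointwise_smul_iff_inv_smul_mem, MulAut.smul_def, ← map_inv,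
    MulAut.conj_apply, inv_inv]

theorem conj_mem_conj {H : Subgroup G} {x g : G} (hg : g ∈ H) :
    x * g * x⁻¹ ∈ (MulAut.conj x • H : Subgroup G) := by
  rw [mem_conj]
  have : x⁻¹ * (x * g * x⁻¹) * x = g := by group
  rw [this]; exact hg

theorem card_conj (H : Subgroup G) (x : G) :
    Nat.card (MulAut.conj x • H : Subgroup G) = Nat.card H :=
  Nat.card_congr (Subgroup.equivSMul (MulAut.conj x) H).symm.toEquiv

theorem isNilpotent_conj {H : Subgroup G} (hH : Group.IsNilpotent H) (x : G) :
    Group.IsNilpotent (MulAut.conj x • H : Subgroup G) :=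
  Group.nilpotent_of_mulEquiv (Subgroup.equivSMul (MulAut.conj x) H)

theorem isNilpotent_of_le {A H : Subgroup G} (hH : Group.IsNilpotent H) (hA : A ≤ H) :
    Group.IsNilpotent A := by
  have h1 : Group.IsNilpotent (Subgroup.inclusion hA).range := inferInstance
  exact Group.nilpotent_of_mulEquiv
    (MonoidHom.ofInjective (Subgroup.inclusion_injective hA)).symm

/-- `x` normalizes `H` as soon as it conjugates `H` into `H` (finite case). -/
theorem mem_normalizer_of_conj_le [Finite G] {H : Subgroup G} {x : G}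
    (h : ∀ g ∈ H, x * g * x⁻¹ ∈ H) : x ∈ Subgroup.normalizer (H : Set G) := by
  rw [Subgroup.mem_normalizer_iff_map_conj_eq]
  apply Subgroup.eq_of_le_of_card_ge
  · rintro _ ⟨r, hr, rfl⟩
    exact h r hr
  · rw [Subgroup.card_map_of_injective (MulAut.conj x).injective]

theorem conj_mem_of_mem_normalizer {H : Subgroup G} {x g : G}
    (hx : x ∈ Subgroup.normalizer (H : Set G)) (hg : g ∈ H) : x * g * x⁻¹ ∈ H :=
  (Subgroup.mem_normalizer_iff.mp hx g).mp hg

theorem conj_mem_of_mem_normalizer' {H : Subgroup G} {x g : G}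
    (hx : x ∈ Subgroup.normalizer (H : Set G)) (hg : g ∈ H) : x⁻¹ * g * x ∈ H := by
  have := conj_mem_of_mem_normalizer (Subgroup.inv_mem _ hx) hg
  simpa using this

theorem conj_eq_of_mem_normalizer {H : Subgroup G} {x : G}
    (hx : x ∈ Subgroup.normalizer (H : Set G)) : (MulAut.conj x • H : Subgroup G) = H := by
  ext g
  rw [mem_conj]
  constructor
  · intro h
    have := conj_mem_of_mem_normalizer hx h
    have e : x * (x⁻¹ * g * x) * x⁻¹ = g := by group
    rwa [e] at this
  · intro h
    exact conj_mem_of_mem_normalizer' hx h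

theorem mem_normalizer_of_conj_eq {H : Subgroup G} {x : G}
    (hx : (MulAut.conj x • H : Subgroup G) = H) : x ∈ Subgroup.normalizer (H : Set G) := by
  rw [Subgroup.mem_normalizer_iff]
  intro g
  constructor
  · intro hg
    rw [← hx]
    exact conj_mem_conj hg
  · intro hg
    rw [← hx, mem_conj] at hg
    have e : x⁻¹ * (x * g * x⁻¹) * x = g := by group
    rwa [e] at hg

theorem orderOf_conj (x g : G) : orderOf (x * g * x⁻¹) = orderOf g :=
  orderOf_injective (MulAut.conj x).toMonoidHom (MulAut.conj x).injective g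

/-! ### the `p`-part of a nilpotent subgroup -/

/-- the Sylow `p`-subgroup of (nilpotent) `H`, as a subgroup of `G` -/
noncomputable def sylp (H : Subgroup G) (p : ℕ) : Subgroup G :=
  ((default : Sylow p H) : Subgroup H).map H.subtype

theorem sylp_le (H : Subgroup G) (p : ℕ) : sylp H p ≤ H := by
  rintro _ ⟨y, -, rfl⟩
  exact y.2

theorem mem_sylp [Finite G] {H : Subgroup G} (hH : Group.IsNilpotent H) {p : ℕ} [Fact p.Prime]
    {x : G} : x ∈ sylp H p ↔ x ∈ H ∧ ∃ k, orderOf x = p ^ k := by
  constructor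
  · rintro ⟨y, hy, rfl⟩
    refine ⟨y.2, ?_⟩
    obtain ⟨j, hj⟩ := orderOf_of_mem_sylow (default : Sylow p H) hy
    exact ⟨j, by rw [← hj]; exact (Subgroup.orderOf_coe y)⟩
  · rintro ⟨hx, k, hk⟩
    refine ⟨⟨x, hx⟩, ?_, rfl⟩
    apply mem_sylow_of_nilpotent (default : Sylow p H) (j := k)
    rw [← hk, Subgroup.orderOf_mk]

theorem isPGroup_sylp (H : Subgroup G) (p : ℕ) : IsPGroup p (sylp H p) :=
  (default : Sylow p H).2.map _

theorem card_sylp [Finite G] (H : Subgroup G) (p : ℕ) [Fact p.Prime] :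
    Nat.card (sylp H p) = p ^ (Nat.card H).factorization p := by
  unfold sylp
  rw [Subgroup.card_map_of_injective H.subtype_injective]
  exact (default : Sylow p H).card_eq_multiplicity

theorem sylp_ne_bot [Finite G] {H : Subgroup G} {p : ℕ} [hp : Fact p.Prime]
    (hdvd : p ∣ Nat.card H) : sylp H p ≠ ⊥ := by
  intro h
  have h1 := card_sylp H p
  rw [h, Subgroup.card_bot] at h1
  have h2 : 0 < (Nat.card H).factorization p :=
    hp.out.factorization_pos_of_dvd Nat.card_pos.ne' hdvd
  have h3 : 1 < p ^ (Nat.card H).factorization p := Nat.one_lt_pow h2.ne' hp.out.one_lt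
  omega

/-- a `p`-subgroup of the nilpotent `H` lies in `sylp H p` -/
theorem le_sylp [Finite G] {H : Subgroup G} (hH : Group.IsNilpotent H) {p : ℕ} [hp : Fact p.Prime]
    {Q : Subgroup G} (hQH : Q ≤ H) (hQ : IsPGroup p Q) : Q ≤ sylp H p := by
  intro x hx
  rw [mem_sylp hH]
  refine ⟨hQH hx, ?_⟩
  obtain ⟨k, hk⟩ := hQ ⟨x, hx⟩
  have : x ^ (p ^ k) = 1 := by
    have := congrArg Subtype.val hk
    simpa using this
  exact orderOf_eq_prime_pow_of_pow_eq_one this

/-- whoever normalizes the nilpotent `H` normalizes its `p`-part -/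
theorem normalizer_le_normalizer_sylp [Finite G] {H : Subgroup G} (hH : Group.IsNilpotent H)
    (p : ℕ) [Fact p.Prime] :
    Subgroup.normalizer (H : Set G) ≤ Subgroup.normalizer (sylp H p : Set G) := by
  intro x hx
  apply mem_normalizer_of_conj_le
  intro g hg
  rw [mem_sylp hH] at hg ⊢
  refine ⟨conj_mem_of_mem_normalizer hx hg.1, ?_⟩
  rw [orderOf_conj]
  exact hg.2

theorem sylp_normal_in [Finite G] {H : Subgroup G} (hH : Group.IsNilpotent H)
    (p : ℕ) [Fact p.Prime] : H ≤ Subgroup.normalizer (sylp H p : Set G) :=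
  (Subgroup.le_normalizer).trans (normalizer_le_normalizer_sylp hH p)

theorem sylp_conj [Finite G] {H : Subgroup G} (hH : Group.IsNilpotent H) (p : ℕ) [Fact p.Prime]
    (x : G) : sylp (MulAut.conj x • H) p = MulAut.conj x • sylp H p := by
  ext g
  rw [mem_sylp (isNilpotent_conj hH x), mem_conj, mem_conj, mem_sylp hH]
  have : orderOf (x⁻¹ * g * x) = orderOf g := by
    have := orderOf_conj x⁻¹ g
    simpa using this
  rw [this]

/-- elements of different primary parts commute -/
theorem commute_sylp [Finite G] {H : Subgroup G} (hH : Group.IsNilpotent H) {p q : ℕ}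
    [hp : Fact p.Prime] [hq : Fact q.Prime] (hpq : p ≠ q) {x y : G} (hx : x ∈ sylp H p)
    (hy : y ∈ sylp H q) : x * y = y * x := by
  rw [mem_sylp hH] at hx hy
  obtain ⟨hxH, k, hk⟩ := hx
  obtain ⟨hyH, l, hl⟩ := hy
  have hco : (orderOf (⟨x, hxH⟩ : H)).Coprime (orderOf (⟨y, hyH⟩ : H)) := by
    rw [Subgroup.orderOf_mk, Subgroup.orderOf_mk, hk, hl]
    exact Nat.Coprime.pow _ _ ((Nat.coprime_primes hp.out hq.out).mpr hpq)
  have := (commute_of_coprime_orderOf H ⟨x, hxH⟩ ⟨y, hyH⟩ hco).eq
  exact congrArg Subtype.val this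

theorem sylp_le_centralizer_sylp [Finite G] {H : Subgroup G} (hH : Group.IsNilpotent H) {p q : ℕ}
    [Fact p.Prime] [Fact q.Prime] (hpq : p ≠ q) :
    sylp H p ≤ Subgroup.centralizer (sylp H q : Set G) := by
  intro x hx
  rw [Subgroup.mem_centralizer_iff]
  intro y hy
  exact (commute_sylp hH hpq hx hy).symm

/-- an element of `p`-power order of `H` commutes with the `q`-part -/
theorem sylp_le_centralizer_of_mem [Finite G] {H : Subgroup G} (hH : Group.IsNilpotent H) {p q : ℕ}
    [Fact p.Prime] [Fact q.Prime] (hpq : p ≠ q) {a : G} (ha : a ∈ sylp H p) :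
    sylp H q ≤ Subgroup.centralizer ({a} : Set G) := by
  intro y hy
  rw [Subgroup.mem_centralizer_singleton_iff]
  exact (commute_sylp hH hpq ha hy).symm

end Cfsg.Agent.Helper90.KW
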