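import Cfsg.Agent.Lib.Helper90.KW.Basic
import Cfsg.Agent.S0558

set_option autoImplicit false
set_option linter.unusedSectionVars false

/-!
# A relative form of the normal complement theorem for nilpotent Hall subgroups (S0558)
-/

namespace Cfsg.Agent.Helper90.KW

open scoped Pointwise

variable {G : Type*} [Group G] [Finite G]

theorem orderOf_coe_coe {C : Subgroup G} {Q' : Subgroup C} (y : Q') :
    orderOf ((y : C) : G) = orderOf y := by
  rw [Subgroup.orderOf_coe, Subgroup.orderOf_coe]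

/-- the Sylow `p`-subgroup of `Q.subgroupOf C`, for nilpotent `Q ≤ C` -/
theorem map_sylow_subgroupOf {C Q : Subgroup G} (hQ : Group.IsNilpotent Q)
    (p : ℕ) [Fact p.Prime] (P : Sylow p (Q.subgroupOf C)) (hQC : Q ≤ C) :
    ((P : Subgroup (Q.subgroupOf C)).map (Q.subgroupOf C).subtype : Subgroup C) =
      (sylp Q p).subgroupOf C := by
  have hnil : Group.IsNilpotent (Q.subgroupOf C) :=
    Group.nilpotent_of_mulEquiv (Subgroup.subgroupOfEquivOfLe hQC).symm
  ext x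
  rw [Subgroup.mem_subgroupOf, mem_sylp hQ]
  constructor
  · rintro ⟨y, hy, rfl⟩
    refine ⟨Subgroup.mem_subgroupOf.mp y.2, ?_⟩
    obtain ⟨j, hj⟩ := orderOf_of_mem_sylow P hy
    exact ⟨j, by rw [← hj]; exact orderOf_coe_coe y⟩
  · rintro ⟨hxQ, j, hj⟩
    refine ⟨⟨x, Subgroup.mem_subgroupOf.mpr hxQ⟩, ?_, rfl⟩
    apply mem_sylow_of_nilpotent P (j := j)
    rw [← hj]
    exact (orderOf_coe_coe (⟨x, Subgroup.mem_subgroupOf.mpr hxQ⟩ : Q.subgroupOf C)).symm

/-- relative form of S0558 -/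
theorem exists_normal_complement_rel {C Q : Subgroup G} (hQC : Q ≤ C) (hQ : Group.IsNilpotent Q)
    (htwo : ∀ p : ℕ, p.Prime → p ∣ Nat.card Q → ∃ q : ℕ, q.Prime ∧ q ≠ p ∧ q ∣ Nat.card Q)
    (hne : Q ≠ ⊥)
    (hnorm : ∀ (p : ℕ) [Fact p.Prime], p ∣ Nat.card Q →
      C ⊓ Subgroup.normalizer (sylp Q p : Set G) ≤ Q) :
    ∃ B : Subgroup G, B ≤ C ∧ C ≤ Subgroup.normalizer (B : Set G) ∧ B ⊓ Q = ⊥ ∧
      Nat.card B * Nat.card Q = Nat.card C ∧ (Nat.card B).Coprime (Nat.card Q) := by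
  have hcardQ : Nat.card (Q.subgroupOf C) = Nat.card Q :=
    Nat.card_congr (Subgroup.subgroupOfEquivOfLe hQC).toEquiv
  have hnorm' : ∀ p : ℕ, p.Prime → p ∣ Nat.card (Q.subgroupOf C) →
      ∀ P : Sylow p (Q.subgroupOf C),
      Subgroup.normalizer (((P : Subgroup (Q.subgroupOf C)).map (Q.subgroupOf C).subtype :
        Subgroup C) : Set C) = Q.subgroupOf C := by
    intro p hp hpd P
    have : Fact p.Prime := ⟨hp⟩
    rw [hcardQ] at hpd
    rw [map_sylow_subgroupOf hQ p P hQC]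
    ext x
    rw [Subgroup.mem_subgroupOf]
    constructor
    · intro hx
      apply hnorm p hpd
      refine ⟨x.2, ?_⟩
      apply mem_normalizer_of_conj_le
      intro g hg
      have hgC : g ∈ C := hQC (sylp_le Q p hg)
      have := conj_mem_of_mem_normalizer hx (g := (⟨g, hgC⟩ : C))
        (by rw [Subgroup.mem_subgroupOf]; exact hg)
      rw [Subgroup.mem_subgroupOf] at this
      exact this
    · intro hx
      apply mem_normalizer_of_conj_le
      intro g hg
      rw [Subgroup.mem_subgroupOf] at hg ⊢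
      exact conj_mem_of_mem_normalizer (sylp_normal_in hQ p hx) hg
  have hnot : ∀ p : ℕ, p.Prime → ∀ P : Sylow p C, (P : Subgroup C) ≠ Q.subgroupOf C := by
    intro p hp P hPQ
    have : Fact p.Prime := ⟨hp⟩
    obtain ⟨k, hk⟩ := P.2.exists_card_eq
    rw [hPQ, hcardQ] at hk
    have hk0 : k ≠ 0 := by
      rintro rfl
      rw [pow_zero] at hk
      exact hne (Subgroup.card_eq_one.mp hk)
    obtain ⟨q, hq, hqp, hqd⟩ := htwo p hp (by rw [hk]; exact dvd_pow_self p hk0)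
    rw [hk] at hqd
    exact hqp ((Nat.prime_dvd_prime_iff_eq hq hp).mp (hq.dvd_of_dvd_pow hqd))
  obtain ⟨N', hN'n, hN'c⟩ := Cfsg.Agent.S0558.result (Q.subgroupOf C) hnot hnorm'
  have hhall := Cfsg.Agent.S0558.hall (Q.subgroupOf C) hnorm'
  have hcm := hN'c.card_mul_card
  refine ⟨N'.map C.subtype, Subgroup.map_subtype_le _, ?_, ?_, ?_, ?_⟩
  · intro y hy
    apply mem_normalizer_of_conj_le
    rintro _ ⟨u, hu, rfl⟩
    exact ⟨⟨y, hy⟩ * u * ⟨y, hy⟩⁻¹, hN'n.conj_mem u hu _, rfl⟩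
  · rw [eq_bot_iff]
    rintro g ⟨⟨n, hn, rfl⟩, hgQ⟩
    have h1 : n ∈ N' ⊓ Q.subgroupOf C := ⟨hn, Subgroup.mem_subgroupOf.mpr hgQ⟩
    rw [hN'c.disjoint.eq_bot, Subgroup.mem_bot] at h1
    rw [h1]
    exact Subgroup.one_mem _
  · rw [Subgroup.card_map_of_injective C.subtype_injective, ← hcardQ]
    exact hcm
  · rw [Subgroup.card_map_of_injective C.subtype_injective, ← hcardQ]
    have h2 := (Q.subgroupOf C).card_mul_index
    have h3 : (Q.subgroupOf C).index = Nat.card N' := by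
      apply Nat.eq_of_mul_eq_mul_left (Nat.card_pos (α := Q.subgroupOf C))
      rw [h2, ← hcm, mul_comm]
    rw [← h3]
    exact hhall.symm

end Cfsg.Agent.Helper90.KW
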