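import Cfsg.Agent.Lib.Helper90.KW.Fix
import Cfsg.Agent.Lib.Helper90.KW.Rel

set_option autoImplicit false
set_option linter.unusedSectionVars false

/-!
# Kegel–Wielandt: centralizers of elements of `H` lie in `N_G(H)` (Claim C)
-/

namespace Cfsg.Agent.Helper90.KW

open scoped Pointwise

variable {G : Type*} [Group G] [Finite G] {H K : Subgroup G}

/-- elements of `N_G(H)` of order prime to `|K|` lie in `H` -/
theorem Cfg.mem_of_mem_normalizer (c : Cfg H K) {x : G}
    (hxN : x ∈ Subgroup.normalizer (H : Set G))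
    (hcop : (orderOf x).Coprime (Nat.card K)) : x ∈ H := by
  obtain ⟨h, hh, k, hk, rfl⟩ := c.fac_of_le (Subgroup.le_normalizer (H := H)) x hxN
  have hpow : ∀ j : ℕ, ∃ hj ∈ H, (h * k) ^ j = hj * k ^ j := by
    intro j
    induction j with
    | zero => exact ⟨1, H.one_mem, by simp⟩
    | succ j ih =>
      obtain ⟨hj, hjH, e⟩ := ih
      refine ⟨hj * (k ^ j * h * (k ^ j)⁻¹), H.mul_mem hjH
        (conj_mem_of_mem_normalizer (Subgroup.pow_mem _ hk.1 j) hh.2), ?_⟩
      rw [pow_succ, e, pow_succ]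
      group
  obtain ⟨hn, hnH, e⟩ := hpow (orderOf (h * k))
  rw [pow_orderOf_eq_one] at e
  have e' : k ^ orderOf (h * k) = hn⁻¹ := eq_inv_of_mul_eq_one_right e.symm
  have hkn : k ^ orderOf (h * k) ∈ H ⊓ K := ⟨by rw [e']; exact H.inv_mem hnH, K.pow_mem hk.2 _⟩
  rw [c.inf_eq_bot, Subgroup.mem_bot] at hkn
  have h1 : orderOf k ∣ orderOf (h * k) := orderOf_dvd_of_pow_eq_one hkn
  have h2 : orderOf k ∣ Nat.card K := by
    rw [← Subgroup.orderOf_mk k hk.2]
    exact orderOf_dvd_natCard (⟨k, hk.2⟩ : K)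
  have h3 : orderOf k = 1 := by
    have := Nat.dvd_gcd h1 h2
    rw [hcop] at this
    exact Nat.dvd_one.mp this
  rw [orderOf_eq_one_iff] at h3
  rw [h3, mul_one]
  exact hh.2

/-- a nontrivial element of `sylp H p` central in `H` -/
theorem exists_central_of_sylp {H : Subgroup G} (hH : Group.IsNilpotent H) {p : ℕ}
    [hp : Fact p.Prime] (hpH : p ∣ Nat.card H) :
    ∃ z ∈ sylp H p, z ≠ 1 ∧ ∀ h ∈ H, h * z = z * h := by
  have hnt : Nontrivial (sylp H p) := by
    obtain ⟨⟨b, hb⟩, hb1⟩ := (Subgroup.ne_bot_iff_exists_ne_one).mp (sylp_ne_bot (H := H) hpH)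
    exact ⟨⟨b, hb⟩, 1, hb1⟩
  have hcn := (isPGroup_sylp H p).center_nontrivial
  obtain ⟨⟨z, hz⟩, hz1⟩ := exists_ne (1 : Subgroup.center (sylp H p))
  refine ⟨(z : G), z.2, ?_, ?_⟩
  · intro h
    apply hz1
    apply Subtype.ext
    apply Subtype.ext
    exact h
  · intro h hh
    obtain ⟨u, v, hu, hv, hvc, rfl⟩ := exists_decomp hH p hh
    have h1 : u * (z : G) = z * u := by
      have := Subgroup.mem_center_iff.mp hz ⟨u, hu⟩
      exact congrArg Subtype.val this
    have h2 := hvc z z.2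
    calc u * v * z = u * (v * z) := by group
      _ = u * (z * v) := by rw [h2]
      _ = (u * z) * v := by group
      _ = z * u * v := by rw [h1]
      _ = z * (u * v) := by group

/-- the good case: if `C_N(a) ≤ H` then `C_G(a) ≤ H` -/
theorem Cfg.centralizer_le_of_good (c : Cfg H K) {a : G} {p : ℕ} [hp : Fact p.Prime] (haH : a ∈ H)
    (hap : orderOf a = p)
    (hgood : Subgroup.centralizer ({a} : Set G) ⊓ Subgroup.normalizer (H : Set G) ≤ H) :
    Subgroup.centralizer ({a} : Set G) ≤ H := by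
  have ha1 : a ≠ 1 := by
    intro h
    rw [h, orderOf_one] at hap
    exact hp.out.one_lt.ne hap
  have haS : a ∈ sylp H p := (mem_sylp c.nilH).mpr ⟨haH, 1, by rw [hap, pow_one]⟩
  have haC : a ∈ Subgroup.centralizer ({a} : Set G) := Subgroup.mem_centralizer_singleton_iff.mpr rfl
  have hpH : p ∣ Nat.card H := by
    rw [← hap, ← Subgroup.orderOf_mk a haH]
    exact orderOf_dvd_natCard _
  obtain ⟨t, ht, htp, htH⟩ := c.twoH p hp.out hpH
  have : Fact t.Prime := ⟨ht⟩
  have hSC : ∀ (ℓ : ℕ) [Fact ℓ.Prime], ℓ ≠ p → sylp H ℓ ≤ Subgroup.centralizer ({a} : Set G) :=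
    fun ℓ _ hℓ => sylp_le_centralizer_of_mem c.nilH hℓ.symm haS
  have hQnil : Group.IsNilpotent (Subgroup.centralizer ({a} : Set G) ⊓ H : Subgroup G) :=
    isNilpotent_of_le c.nilH inf_le_right
  have haQ : a ∈ Subgroup.centralizer ({a} : Set G) ⊓ H := ⟨haC, haH⟩
  have hQne : Subgroup.centralizer ({a} : Set G) ⊓ H ≠ ⊥ := by
    intro h
    rw [h, Subgroup.mem_bot] at haQ
    exact ha1 haQ
  have hdvdQ : ∀ ℓ : ℕ, ℓ.Prime → ℓ ∣ Nat.card H →
      ℓ ∣ Nat.card (Subgroup.centralizer ({a} : Set G) ⊓ H : Subgroup G) := by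
    intro ℓ hℓ hℓH
    have : Fact ℓ.Prime := ⟨hℓ⟩
    by_cases hℓp : ℓ = p
    · rw [hℓp, ← hap, ← Subgroup.orderOf_mk a haQ]
      exact orderOf_dvd_natCard _
    · have h1 : sylp H ℓ ≤ Subgroup.centralizer ({a} : Set G) ⊓ H :=
        le_inf (hSC ℓ hℓp) (sylp_le H ℓ)
      have h2 := Subgroup.card_dvd_of_le h1
      rw [KW.card_sylp] at h2
      exact (dvd_pow_self ℓ (Nat.Prime.factorization_pos_of_dvd hℓ Nat.card_pos.ne' hℓH).ne').trans h2
  have htwo : ∀ ℓ : ℕ, ℓ.Prime →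
      ℓ ∣ Nat.card (Subgroup.centralizer ({a} : Set G) ⊓ H : Subgroup G) →
      ∃ q : ℕ, q.Prime ∧ q ≠ ℓ ∧ q ∣ Nat.card (Subgroup.centralizer ({a} : Set G) ⊓ H : Subgroup G) := by
    intro ℓ hℓ _
    by_cases hℓp : ℓ = p
    · exact ⟨t, ht, by rw [hℓp]; exact htp, hdvdQ t ht htH⟩
    · exact ⟨p, hp.out, fun h => hℓp h.symm, hdvdQ p hp.out hpH⟩
  obtain ⟨z, hzS, hz1, hzc⟩ := exists_central_of_sylp c.nilH hpH
  have hzQ : z ∈ Subgroup.centralizer ({a} : Set G) ⊓ H :=
    ⟨Subgroup.mem_centralizer_singleton_iff.mpr (hzc a haH).symm, sylp_le H p hzS⟩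
  have hnorm : ∀ (ℓ : ℕ) [Fact ℓ.Prime],
      ℓ ∣ Nat.card (Subgroup.centralizer ({a} : Set G) ⊓ H : Subgroup G) →
      Subgroup.centralizer ({a} : Set G) ⊓
        Subgroup.normalizer (sylp (Subgroup.centralizer ({a} : Set G) ⊓ H) ℓ : Set G) ≤
        Subgroup.centralizer ({a} : Set G) ⊓ H := by
    intro ℓ _ hℓQ g hg
    have hℓH : ℓ ∣ Nat.card H := hℓQ.trans (Subgroup.card_dvd_of_le inf_le_right)
    suffices hgN : g ∈ Subgroup.normalizer (H : Set G) from ⟨hg.1, hgood ⟨hg.1, hgN⟩⟩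
    by_cases hℓp : ℓ = p
    · subst hℓp
      have hzQp : z ∈ sylp (Subgroup.centralizer ({a} : Set G) ⊓ H) ℓ :=
        (mem_sylp hQnil).mpr ⟨hzQ, ((mem_sylp c.nilH).mp hzS).2⟩
      have hz' : g * z * g⁻¹ ∈ sylp (Subgroup.centralizer ({a} : Set G) ⊓ H) ℓ :=
        conj_mem_of_mem_normalizer hg.2 hzQp
      have hz'S : g * z * g⁻¹ ∈ sylp H ℓ := by
        rw [mem_sylp hQnil] at hz'
        exact (mem_sylp c.nilH).mpr ⟨hz'.1.2, hz'.2⟩
      have hz'1 : g * z * g⁻¹ ≠ 1 := by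
        intro h
        apply hz1
        have e : z = g⁻¹ * (g * z * g⁻¹) * g := by group
        rw [e, h]
        group
      have hDne : Subgroup.centralizer ({g * z * g⁻¹} : Set G) ≠ ⊤ := c.centralizer_ne_top hz'1
      have c' : Cfg (MulAut.conj g • H) K := (c.symm.conjK g).symm
      have hHD : MulAut.conj g • H ≤ Subgroup.centralizer ({g * z * g⁻¹} : Set G) := by
        intro x hx
        rw [mem_conj] at hx
        rw [Subgroup.mem_centralizer_singleton_iff]
        have := hzc _ hx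
        calc x * (g * z * g⁻¹) = g * ((g⁻¹ * x * g) * z) * g⁻¹ := by group
          _ = g * (z * (g⁻¹ * x * g)) * g⁻¹ := by rw [this]
          _ = g * z * g⁻¹ * x := by group
      have hDN := c'.le_normalizer_of_le hDne hHD
      have hTD : sylp H t ≤ Subgroup.centralizer ({g * z * g⁻¹} : Set G) :=
        sylp_le_centralizer_of_mem c.nilH htp.symm hz'S
      have hT1 : sylp H t ≤ MulAut.conj g • H := by
        intro x hx
        apply c'.mem_of_mem_normalizer (hDN (hTD hx))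
        obtain ⟨k, hk⟩ := ((mem_sylp c.nilH).mp hx).2
        rw [hk]
        exact Nat.Coprime.pow_left _ ((Nat.Prime.coprime_iff_not_dvd ht).mpr (c.not_dvd_K ht htH))
      have hT2 : sylp H t ≤ MulAut.conj g • sylp H t := by
        rw [← sylp_conj c.nilH]
        exact le_sylp (isNilpotent_conj c.nilH g) hT1 (isPGroup_sylp H t)
      have hT3 : MulAut.conj g • sylp H t = sylp H t := by
        symm
        apply Subgroup.eq_of_le_of_card_ge hT2
        rw [card_conj]
      rw [← c.normalizer_sylp_eq htH]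
      exact mem_normalizer_of_conj_eq hT3
    · have heq : sylp (Subgroup.centralizer ({a} : Set G) ⊓ H) ℓ = sylp H ℓ := by
        ext x
        rw [mem_sylp hQnil, mem_sylp c.nilH]
        constructor
        · rintro ⟨h1, h2⟩
          exact ⟨h1.2, h2⟩
        · rintro ⟨h1, h2⟩
          exact ⟨⟨hSC ℓ hℓp ((mem_sylp c.nilH).mpr ⟨h1, h2⟩), h1⟩, h2⟩
      rw [← c.normalizer_sylp_eq hℓH, ← heq]
      exact hg.2
  obtain ⟨B, hBC, hCB, hBQ, hcard, hcop⟩ :=
    exists_normal_complement_rel (inf_le_left : Subgroup.centralizer ({a} : Set G) ⊓ H ≤ _)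
      hQnil htwo hQne hnorm
  have hB : B = ⊥ := by
    apply c.eq_bot_of_normalized htH 1 B
    · apply Nat.coprime_of_dvd
      intro k hk hkB hkH
      have h1 := Nat.dvd_gcd hkB (hdvdQ k hk hkH)
      rw [hcop] at h1
      exact hk.one_lt.ne' (Nat.dvd_one.mp h1)
    · rw [map_one, one_smul]
      exact (hSC t htp).trans hCB
  rw [hB, Subgroup.card_bot, one_mul] at hcard
  have hQC : Subgroup.centralizer ({a} : Set G) ⊓ H = Subgroup.centralizer ({a} : Set G) :=
    Subgroup.eq_of_le_of_card_ge inf_le_left hcard.ge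
  intro x hx
  rw [← hQC] at hx
  exact hx.2

/-- the bad case: some element of `N_G(H)` outside `H` centralizes `a` -/
theorem Cfg.centralizer_le_of_bad (c : Cfg H K) {a : G} (haH : a ∈ H) (ha1 : a ≠ 1)
    (hbad : ¬ (Subgroup.centralizer ({a} : Set G) ⊓ Subgroup.normalizer (H : Set G) ≤ H)) :
    Subgroup.centralizer ({a} : Set G) ≤ Subgroup.normalizer (H : Set G) := by
  rw [SetLike.not_le_iff_exists] at hbad
  obtain ⟨x, hx, hxH⟩ := hbad
  have hnc : ¬ (orderOf x).Coprime (Nat.card K) := fun h => hxH (c.mem_of_mem_normalizer hx.2 h)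
  obtain ⟨s, hs, hsx, hsK⟩ := Nat.Prime.not_coprime_iff_dvd.mp hnc
  have : Fact s.Prime := ⟨hs⟩
  have hws : orderOf (x ^ (orderOf x / s)) = s := orderOf_pow_orderOf_div (orderOf_pos x).ne' hsx
  have hwC : x ^ (orderOf x / s) ∈ Subgroup.centralizer ({a} : Set G) := Subgroup.pow_mem _ hx.1 _
  have hwN : x ^ (orderOf x / s) ∈ Subgroup.normalizer (H : Set G) := Subgroup.pow_mem _ hx.2 _
  have hw1 : x ^ (orderOf x / s) ≠ 1 := by
    intro h
    rw [h, orderOf_one] at hws
    exact hs.one_lt.ne hws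
  obtain ⟨y, hy⟩ := c.exists_conj_sylp_K hsK (b := x ^ (orderOf x / s)) (k := 1)
    (by rw [hws, pow_one])
  have hwK' : x ^ (orderOf x / s) ∈ MulAut.conj y • K := by
    rw [mem_conj] at hy ⊢
    exact sylp_le K s hy
  have c' : Cfg H (MulAut.conj y • K) := c.conjK y
  have haw : a ∈ Subgroup.centralizer ({x ^ (orderOf x / s)} : Set G) ⊓ H :=
    ⟨Subgroup.mem_centralizer_singleton_iff.mpr
      (Subgroup.mem_centralizer_singleton_iff.mp hwC).symm, haH⟩
  have haN : a ∈ Subgroup.normalizer ((MulAut.conj y • K : Subgroup G) : Set G) :=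
    c'.centralizer_le_normalizer hwK' hwN hw1 haw
  have hfac := c'.symm.fac_centralizer haH haN
  have hF := c'.symm.centralizer_le_normalizer haH haN ha1
  intro g hg
  obtain ⟨k, hk, h, hh, rfl⟩ := hfac g hg
  exact Subgroup.mul_mem _ (hF hk) (Subgroup.le_normalizer hh.2)

/-- Claim C: centralizers of elements of prime order of `H` lie in `N_G(H)` -/
theorem Cfg.centralizer_le_normalizer_self (c : Cfg H K) {a : G} {p : ℕ} [hp : Fact p.Prime]
    (haH : a ∈ H) (hap : orderOf a = p) :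
    Subgroup.centralizer ({a} : Set G) ≤ Subgroup.normalizer (H : Set G) := by
  have ha1 : a ≠ 1 := by
    intro h
    rw [h, orderOf_one] at hap
    exact hp.out.one_lt.ne hap
  by_cases hgood : Subgroup.centralizer ({a} : Set G) ⊓ Subgroup.normalizer (H : Set G) ≤ H
  · exact (c.centralizer_le_of_good haH hap hgood).trans Subgroup.le_normalizer
  · exact c.centralizer_le_of_bad haH ha1 hgood

/-- `H` is a TI-subgroup -/
theorem Cfg.mem_normalizer_of_mem_conj (c : Cfg H K) {a g : G} (ha1 : a ≠ 1) (haH : a ∈ H)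
    (hag : a ∈ MulAut.conj g • H) : g ∈ Subgroup.normalizer (H : Set G) := by
  have ho : orderOf a ≠ 1 := by rwa [Ne, orderOf_eq_one_iff]
  obtain ⟨p, hp, hpd⟩ := Nat.exists_prime_and_dvd ho
  have : Fact p.Prime := ⟨hp⟩
  have hap : orderOf (a ^ (orderOf a / p)) = p := orderOf_pow_orderOf_div (orderOf_pos a).ne' hpd
  have haH' : a ^ (orderOf a / p) ∈ H := H.pow_mem haH _
  have hag' : a ^ (orderOf a / p) ∈ MulAut.conj g • H := Subgroup.pow_mem _ hag _
  have hpH : p ∣ Nat.card H := by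
    rw [← hap, ← Subgroup.orderOf_mk _ haH']
    exact orderOf_dvd_natCard _
  obtain ⟨t, ht, htp, htH⟩ := c.twoH p hp hpH
  have : Fact t.Prime := ⟨ht⟩
  have hnil' := isNilpotent_conj c.nilH g
  have haS' : a ^ (orderOf a / p) ∈ sylp (MulAut.conj g • H) p :=
    (mem_sylp hnil').mpr ⟨hag', 1, by rw [hap, pow_one]⟩
  have h1 : sylp (MulAut.conj g • H) t ≤ Subgroup.centralizer ({a ^ (orderOf a / p)} : Set G) :=
    sylp_le_centralizer_of_mem hnil' htp.symm haS'
  have h2 := h1.trans (c.centralizer_le_normalizer_self haH' hap)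
  rw [sylp_conj c.nilH] at h2
  have h3 : MulAut.conj g • sylp H t ≤ H := by
    intro x hx
    apply c.mem_of_mem_normalizer (h2 hx)
    rw [← sylp_conj c.nilH] at hx
    obtain ⟨k, hk⟩ := ((mem_sylp hnil').mp hx).2
    rw [hk]
    exact Nat.Coprime.pow_left _ ((Nat.Prime.coprime_iff_not_dvd ht).mpr (c.not_dvd_K ht htH))
  have h4 : MulAut.conj g • sylp H t ≤ sylp H t := by
    apply le_sylp c.nilH h3
    rw [← sylp_conj c.nilH]
    exact isPGroup_sylp _ t
  have h5 : MulAut.conj g • sylp H t = sylp H t := by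
    apply Subgroup.eq_of_le_of_card_ge h4
    rw [card_conj]
  rw [← c.normalizer_sylp_eq htH]
  exact mem_normalizer_of_conj_eq h5

theorem Cfg.card_le (c : Cfg H K) : Nat.card H ≤ Nat.card K := by
  have hHne : H ≠ ⊥ := fun h => c.card_H_ne_one (by rw [h, Subgroup.card_bot])
  have hN := c.normalizer_ne_top hHne c.ne_top_H
  obtain ⟨x, hx⟩ : ∃ x : G, x ∉ Subgroup.normalizer (H : Set G) := by
    by_contra hall
    exact hN ((Subgroup.eq_top_iff' _).mpr (fun x => by_contra (fun hx => hall ⟨x, hx⟩)))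
  have hinj : Function.Injective (fun q : H × H => (q.1 : G) * x * (q.2 : G)) := by
    rintro ⟨h₁, h₂⟩ ⟨h₁', h₂'⟩ e
    simp only at e
    have e1 : x⁻¹ * ((h₁' : G)⁻¹ * h₁) * x = (h₂' : G) * (h₂ : G)⁻¹ := by
      have : (h₁' : G)⁻¹ * ((h₁ : G) * x * h₂) * (h₂ : G)⁻¹ = (h₁' : G)⁻¹ * ((h₁' : G) * x * h₂') * (h₂ : G)⁻¹ := by
        rw [e]
      calc x⁻¹ * ((h₁' : G)⁻¹ * h₁) * x = x⁻¹ * ((h₁' : G)⁻¹ * ((h₁ : G) * x * h₂) * (h₂ : G)⁻¹) := by group
        _ = x⁻¹ * ((h₁' : G)⁻¹ * ((h₁' : G) * x * h₂') * (h₂ : G)⁻¹) := by rw [this]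
        _ = (h₂' : G) * (h₂ : G)⁻¹ := by group
    have hmem : (h₁' : G)⁻¹ * h₁ ∈ MulAut.conj x • H := by
      rw [mem_conj, e1]
      exact H.mul_mem h₂'.2 (H.inv_mem h₂.2)
    have h1 : (h₁' : G)⁻¹ * h₁ = 1 := by
      by_contra hne
      exact hx (c.mem_normalizer_of_mem_conj hne (H.mul_mem (H.inv_mem h₁'.2) h₁.2) hmem)
    have h2 : (h₁ : G) = h₁' := by
      have := congrArg (fun z => (h₁' : G) * z) h1
      simpa using this
    have h3 : (h₂ : G) = h₂' := by
      rw [h2] at e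
      exact mul_left_cancel e
    exact Prod.ext (Subtype.ext h2) (Subtype.ext h3)
  have h1 := Nat.card_le_card_of_injective _ hinj
  rw [Nat.card_prod, c.card_eq] at h1
  exact Nat.le_of_mul_le_mul_left h1 Nat.card_pos

/-- the minimal configuration does not exist -/
theorem Cfg.elim (c : Cfg H K) : False := by
  have h1 := c.card_le
  have h2 := c.symm.card_le
  have h3 : Nat.card H = Nat.card K := le_antisymm h1 h2
  have h4 := c.cop
  rw [← h3, Nat.coprime_self] at h4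
  exact c.card_H_ne_one h4

end Cfsg.Agent.Helper90.KW
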