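import Cfsg.Agent.Lib.Helper90.KW.Basic
import Cfsg.Agent.S0559
import Cfsg.Agent.S0561
import Cfsg.Agent.S0562
import Cfsg.Agent.S0566
import Cfsg.Agent.S0581

set_option autoImplicit false
set_option linter.unusedSectionVars false

/-!
# Kegel–Wielandt: the minimal configuration

`Cfg H K`: `G = HK` is a non-solvable finite group without proper nontrivial normal subgroups,
`H`, `K` nilpotent of coprime orders, each with at least two prime divisors, and every proper
subgroup that is a product of two nilpotent subgroups of coprime orders is solvable.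
-/

namespace Cfsg.Agent.Helper90.KW

open scoped Pointwise

variable {G : Type*} [Group G] [Finite G]

structure Cfg (H K : Subgroup G) : Prop where
  nilH : Group.IsNilpotent H
  nilK : Group.IsNilpotent K
  cop : (Nat.card H).Coprime (Nat.card K)
  prod : ∀ g : G, ∃ h ∈ H, ∃ k ∈ K, g = h * k
  simple : ∀ N : Subgroup G, N.Normal → N = ⊥ ∨ N = ⊤
  nsol : ¬ Group.IsSolvable G
  ih : ∀ (L A B : Subgroup G), L ≠ ⊤ → A ≤ L → B ≤ L → Group.IsNilpotent A →
    Group.IsNilpotent B → (Nat.card A).Coprime (Nat.card B) →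
    (∀ g ∈ L, ∃ a ∈ A, ∃ b ∈ B, g = a * b) → Group.IsSolvable L
  twoH : ∀ p : ℕ, p.Prime → p ∣ Nat.card H → ∃ q : ℕ, q.Prime ∧ q ≠ p ∧ q ∣ Nat.card H
  twoK : ∀ p : ℕ, p.Prime → p ∣ Nat.card K → ∃ q : ℕ, q.Prime ∧ q ≠ p ∧ q ∣ Nat.card K

variable {H K : Subgroup G}

theorem prod_symm (h : ∀ g : G, ∃ h ∈ H, ∃ k ∈ K, g = h * k) :
    ∀ g : G, ∃ k ∈ K, ∃ h ∈ H, g = k * h := by
  intro g
  obtain ⟨a, ha, b, hb, hab⟩ := h g⁻¹
  refine ⟨b⁻¹, K.inv_mem hb, a⁻¹, H.inv_mem ha, ?_⟩
  rw [← mul_inv_rev, ← hab, inv_inv]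

theorem Cfg.symm (c : Cfg H K) : Cfg K H where
  nilH := c.nilK
  nilK := c.nilH
  cop := c.cop.symm
  prod := prod_symm c.prod
  simple := c.simple
  nsol := c.nsol
  ih := c.ih
  twoH := c.twoK
  twoK := c.twoH

theorem Cfg.conjK (c : Cfg H K) (x : G) : Cfg H (MulAut.conj x • K) where
  nilH := c.nilH
  nilK := isNilpotent_conj c.nilK x
  cop := by rw [card_conj]; exact c.cop
  prod := (Cfsg.Agent.S0559.result H K H (MulAut.conj x • K) c.prod ⟨1, by simp⟩ ⟨x, rfl⟩).1
  simple := c.simple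
  nsol := c.nsol
  ih := c.ih
  twoH := c.twoH
  twoK := by rw [card_conj]; exact c.twoK

theorem Cfg.inf_eq_bot (c : Cfg H K) : H ⊓ K = ⊥ := (Subgroup.disjoint_of_coprime_natCard c.cop).eq_bot

theorem Cfg.card_eq (c : Cfg H K) : Nat.card G = Nat.card H * Nat.card K := by
  have h1 := Cfsg.Agent.Helper10.card_set_mul_mul_card_inf H K
  rw [c.inf_eq_bot, Subgroup.card_bot, mul_one] at h1
  rw [← h1]
  have : ((H : Set G) * (K : Set G) : Set G) = Set.univ := by
    ext g
    simp only [Set.mem_univ, iff_true]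
    obtain ⟨h, hh, k, hk, rfl⟩ := c.prod g
    exact Set.mul_mem_mul hh hk
  rw [this, Nat.card_congr (Equiv.Set.univ G)]

theorem Cfg.eq_of_mul_eq (c : Cfg H K) {h h' k k' : G} (hh : h ∈ H) (hh' : h' ∈ H) (hk : k ∈ K)
    (hk' : k' ∈ K) (e : h * k = h' * k') : h = h' ∧ k = k' := by
  have h1 : h'⁻¹ * h = k' * k⁻¹ := by
    have : h'⁻¹ * (h * k) * k⁻¹ = h'⁻¹ * (h' * k') * k⁻¹ := by rw [e]
    calc h'⁻¹ * h = h'⁻¹ * (h * k) * k⁻¹ := by group
      _ = h'⁻¹ * (h' * k') * k⁻¹ := this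
      _ = k' * k⁻¹ := by group
  have h2 : h'⁻¹ * h ∈ H ⊓ K :=
    ⟨H.mul_mem (H.inv_mem hh') hh, by rw [h1]; exact K.mul_mem hk' (K.inv_mem hk)⟩
  rw [c.inf_eq_bot, Subgroup.mem_bot] at h2
  have h3 : h = h' := by
    have := congrArg (fun z => h' * z) h2
    simpa using this
  refine ⟨h3, ?_⟩
  subst h3
  exact mul_left_cancel e

theorem Cfg.ne_top_H (c : Cfg H K) : H ≠ ⊤ := by
  intro h
  apply c.nsol
  have : Group.IsNilpotent (⊤ : Subgroup G) := h ▸ c.nilH
  have : Group.IsNilpotent G := Group.nilpotent_of_mulEquiv Subgroup.topEquiv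
  infer_instance

theorem Cfg.center_eq_bot (c : Cfg H K) : Subgroup.center G = ⊥ := by
  rcases c.simple (Subgroup.center G) inferInstance with h | h
  · exact h
  · exfalso
    apply c.nsol
    have : ∀ a b : G, a * b = b * a := by
      intro a b
      have hb : b ∈ Subgroup.center G := h ▸ Subgroup.mem_top b
      exact (Subgroup.mem_center_iff.mp hb a)
    exact isSolvable_of_comm this

theorem Cfg.centralizer_ne_top (c : Cfg H K) {a : G} (ha : a ≠ 1) :
    Subgroup.centralizer ({a} : Set G) ≠ ⊤ := by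
  intro h
  apply ha
  have : a ∈ Subgroup.center G := by
    rw [Subgroup.mem_center_iff]
    intro g
    have hg : g ∈ Subgroup.centralizer ({a} : Set G) := h ▸ Subgroup.mem_top g
    exact (Subgroup.mem_centralizer_singleton_iff.mp hg)
  rw [c.center_eq_bot, Subgroup.mem_bot] at this
  exact this

theorem Cfg.normalizer_ne_top (c : Cfg H K) {U : Subgroup G} (h1 : U ≠ ⊥) (h2 : U ≠ ⊤) :
    Subgroup.normalizer (U : Set G) ≠ ⊤ := by
  intro h
  have : U.Normal := Subgroup.normalizer_eq_top_iff.mp h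
  rcases c.simple U this with h | h
  · exact h1 h
  · exact h2 h

/-- a prime dividing `|H|` does not divide `|K|` -/
theorem Cfg.not_dvd_K (c : Cfg H K) {p : ℕ} (hp : p.Prime) (h : p ∣ Nat.card H) :
    ¬ p ∣ Nat.card K := by
  intro h2
  have := Nat.dvd_gcd h h2
  rw [c.cop] at this
  exact hp.one_lt.ne' (Nat.dvd_one.mp this)

/-- the `t`-part of `H` is a full Sylow subgroup of `G` -/
theorem Cfg.card_sylp (c : Cfg H K) {t : ℕ} [ht : Fact t.Prime] (h : t ∣ Nat.card H) :
    Nat.card (sylp H t) = t ^ (Nat.card G).factorization t := by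
  rw [KW.card_sylp, c.card_eq, Nat.factorization_mul Nat.card_pos.ne' Nat.card_pos.ne']
  simp only [Finsupp.coe_add, Pi.add_apply]
  rw [Nat.factorization_eq_zero_of_not_dvd (c.not_dvd_K ht.out h), add_zero]

end Cfsg.Agent.Helper90.KW
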