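import Cfsg.Agent.Lib.Helper90.KW.Over
import Cfsg.Agent.Lib.Helper60.Solvable

set_option autoImplicit false
set_option linter.unusedSectionVars false

/-!
# Kegel–Wielandt: centralizers of elements of `K ∩ N_G(H)` (Lemma F)
-/

namespace Cfsg.Agent.Helper90.KW

open scoped Pointwise

variable {G : Type*} [Group G] [Finite G] {H K : Subgroup G}

/-- the Sylow `p`-subgroup of a nilpotent Hall subgroup `Q` of `L` is a Hall subgroup of `L` -/
theorem coprime_relIndex_sylp {Q L : Subgroup G} (hQL : Q ≤ L) {p : ℕ} [hp : Fact p.Prime] (m : ℕ)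
    (hm : Nat.card L = Nat.card Q * m) (hpm : ¬ p ∣ m) :
    (Nat.card (sylp Q p)).Coprime ((sylp Q p).relIndex L) := by
  have hle : sylp Q p ≤ L := (sylp_le Q p).trans hQL
  have h1 := ((sylp Q p).subgroupOf L).card_mul_index
  rw [card_subgroupOf_of_le hle, KW.card_sylp, hm] at h1
  rw [KW.card_sylp]
  apply Nat.Coprime.pow_left
  rw [Nat.Prime.coprime_iff_not_dvd hp.out]
  intro hdvd
  have hidx : (sylp Q p).relIndex L = ((sylp Q p).subgroupOf L).index := rfl
  rw [hidx] at hdvd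
  obtain ⟨j, hj⟩ := hdvd
  rw [hj] at h1
  have h2 : p ^ ((Nat.card Q).factorization p + 1) ∣ Nat.card Q * m := by
    rw [← h1, pow_succ]
    exact ⟨j, by ring⟩
  have h3 : p ^ ((Nat.card Q).factorization p + 1) ∣ Nat.card Q :=
    (Nat.Coprime.pow_left _ ((Nat.Prime.coprime_iff_not_dvd hp.out).mpr hpm)).dvd_of_dvd_mul_right h2
  have h4 := (Nat.Prime.pow_dvd_iff_le_factorization hp.out Nat.card_pos.ne').mp h3
  omega

/-- the centralizer of an element of `K ∩ N_G(H)` is factorized -/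
theorem Cfg.fac_centralizer (c : Cfg H K) {w : G} (hwK : w ∈ K)
    (hwN : w ∈ Subgroup.normalizer (H : Set G)) :
    ∀ g ∈ Subgroup.centralizer ({w} : Set G), ∃ h ∈ Subgroup.centralizer ({w} : Set G) ⊓ H,
      ∃ k ∈ Subgroup.centralizer ({w} : Set G) ⊓ K, g = h * k := by
  intro g hg
  rw [Subgroup.mem_centralizer_singleton_iff] at hg
  obtain ⟨h, hh, k, hk, rfl⟩ := c.prod g
  have h1 : w⁻¹ * h⁻¹ * w ∈ H := conj_mem_of_mem_normalizer' hwN (H.inv_mem hh)
  have h2 : w⁻¹ * h⁻¹ * w * h ∈ H := H.mul_mem h1 hh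
  have h0 : k * w * k⁻¹ = h⁻¹ * w * h := by
    calc k * w * k⁻¹ = h⁻¹ * (h * k * w) * k⁻¹ := by group
      _ = h⁻¹ * (w * (h * k)) * k⁻¹ := by rw [hg]
      _ = h⁻¹ * w * h := by group
  have h3 : w⁻¹ * h⁻¹ * w * h = w⁻¹ * (k * w * k⁻¹) := by rw [h0]; group
  have h4 : w⁻¹ * h⁻¹ * w * h ∈ H ⊓ K :=
    ⟨h2, by rw [h3]; exact K.mul_mem (K.inv_mem hwK) (K.mul_mem (K.mul_mem hk hwK) (K.inv_mem hk))⟩
  rw [c.inf_eq_bot, Subgroup.mem_bot] at h4
  have h5 : h * w = w * h := by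
    calc h * w = h * w * (w⁻¹ * h⁻¹ * w * h) := by rw [h4, mul_one]
      _ = w * h := by group
  have h6 : k * w = w * k := by
    calc k * w = h⁻¹ * (h * k * w) := by group
      _ = h⁻¹ * (w * (h * k)) := by rw [hg]
      _ = h⁻¹ * (w * h) * k := by group
      _ = h⁻¹ * (h * w) * k := by rw [h5]
      _ = w * k := by group
  exact ⟨h, ⟨Subgroup.mem_centralizer_singleton_iff.mpr h5, hh⟩, k,
    ⟨Subgroup.mem_centralizer_singleton_iff.mpr h6, hk⟩, rfl⟩

theorem Cfg.sylp_centralizer_le (c : Cfg H K) {w : G} {s : ℕ} [hs : Fact s.Prime] (hwK : w ∈ K)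
    (hwN : w ∈ Subgroup.normalizer (H : Set G)) (hws : orderOf w = s)
    (p : ℕ) [hp : Fact p.Prime] (hpQ : p ∣ Nat.card (Subgroup.centralizer ({w} : Set G) ⊓ H : Subgroup G)) :
    sylp (Subgroup.centralizer ({w} : Set G) ⊓ H) p ≤ Subgroup.normalizer (K : Set G) := by
  set L := Subgroup.centralizer ({w} : Set G) with hL
  have hw1 : w ≠ 1 := by
    intro h
    rw [h, orderOf_one] at hws
    exact hs.out.one_lt.ne hws
  have hLne : L ≠ ⊤ := c.centralizer_ne_top hw1
  have hfac := c.fac_centralizer hwK hwN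
  have hsK : s ∣ Nat.card K := by
    rw [← hws, ← Subgroup.orderOf_mk w hwK]
    exact orderOf_dvd_natCard (⟨w, hwK⟩ : K)
  obtain ⟨r, hr, hrs, hrK⟩ := c.twoK s hs.out hsK
  have : Fact r.Prime := ⟨hr⟩
  have hwS : w ∈ sylp K s := (mem_sylp c.nilK).mpr ⟨hwK, 1, by rw [hws, pow_one]⟩
  have hBL : sylp K r ≤ L := sylp_le_centralizer_of_mem c.nilK hrs.symm hwS
  have hcardL := c.card_of_fac L hfac
  have hnilQ : Group.IsNilpotent (L ⊓ H : Subgroup G) := isNilpotent_of_le c.nilH inf_le_right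
  have hpH : p ∣ Nat.card H := hpQ.trans (Subgroup.card_dvd_of_le inf_le_right)
  set A := sylp (L ⊓ H) p with hA
  have hAQ : A ≤ L ⊓ H := sylp_le _ p
  obtain ⟨Y, hYL, hY⟩ := c.perm L hLne hfac A (sylp K r) hAQ (sylp_normal_in hnilQ p)
    (coprime_relIndex_sylp inf_le_left _ hcardL (fun hdvd =>
      c.not_dvd_K hp.out hpH (hdvd.trans (Subgroup.card_dvd_of_le inf_le_right))))
    (le_inf hBL (sylp_le K r)) (inf_le_right.trans (sylp_normal_in c.nilK r))
    (coprime_relIndex_of_coprime_index hBL (c.symm.coprime_index_sylp hrK))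
  have hYne : Y ≠ ⊤ := fun h => hLne (top_le_iff.mp (h ▸ hYL))
  have hmemY : ∀ {a b : G}, a ∈ A → b ∈ sylp K r → a * b ∈ Y := by
    intro a b ha hb
    have : a * b ∈ (Y : Set G) := by rw [hY]; exact Set.mul_mem_mul ha hb
    exact this
  have hAY : A ≤ Y := by
    intro a ha
    have := hmemY ha (Subgroup.one_mem _)
    rwa [mul_one] at this
  have hBY : sylp K r ≤ Y := by
    intro a ha
    have := hmemY (Subgroup.one_mem _) ha
    rwa [one_mul] at this
  have hAH : A ≤ H := hAQ.trans inf_le_right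
  have hsolY : Group.IsSolvable Y := c.ih Y A (sylp K r) hYne hAY hBY
    (isNilpotent_of_le c.nilH hAH) (isNilpotent_of_le c.nilK (sylp_le K r))
    (Nat.Coprime.coprime_dvd_left (Subgroup.card_dvd_of_le hAH)
      (Nat.Coprime.coprime_dvd_right (Subgroup.card_dvd_of_le (sylp_le K r)) c.cop))
    (by
      intro g hg
      have : g ∈ (Y : Set G) := hg
      rw [hY] at this
      obtain ⟨a, ha, b, hb, rfl⟩ := Set.mem_mul.mp this
      exact ⟨a, ha, b, hb, rfl⟩)
  have hntY : Nontrivial Y := by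
    obtain ⟨⟨b, hb⟩, hb1⟩ := (Subgroup.ne_bot_iff_exists_ne_one).mp (sylp_ne_bot (H := K) hrK)
    refine ⟨⟨b, hBY hb⟩, 1, fun h => hb1 (Subtype.ext ?_)⟩
    have := congrArg Subtype.val h
    exact this
  obtain ⟨ℓ, M₀, hℓ, hMn, hMne, hMp⟩ := Cfsg.Agent.Helper60.exists_normal_pgroup (H := Y)
  have : Fact ℓ.Prime := ⟨hℓ⟩
  set U := M₀.map Y.subtype with hU
  have hUne : U ≠ ⊥ := fun h =>
    hMne ((Subgroup.map_eq_bot_iff_of_injective _ Y.subtype_injective).mp h)
  have hUp : IsPGroup ℓ U := hMp.map _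
  have hUY : U ≤ Y := Subgroup.map_subtype_le _
  have hYU : Y ≤ Subgroup.normalizer (U : Set G) := by
    intro y hy
    apply mem_normalizer_of_conj_le
    rintro _ ⟨u, hu, rfl⟩
    exact ⟨⟨y, hy⟩ * u * ⟨y, hy⟩⁻¹, hMn.conj_mem u hu _, rfl⟩
  have hℓK : ℓ ∣ Nat.card K := by
    by_contra hnd
    apply hUne
    apply c.symm.eq_bot_of_normalized hrK 1 U
    · obtain ⟨k, hk⟩ := hUp.exists_card_eq
      rw [hk]
      exact Nat.Coprime.pow_left _ ((Nat.Prime.coprime_iff_not_dvd hℓ).mpr hnd)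
    · rw [map_one, one_smul]; exact hBY.trans hYU
  have hℓr : ℓ = r := by
    have h1 : Nat.card U ∣ Nat.card A * Nat.card (sylp K r) :=
      (Subgroup.card_dvd_of_le hUY).trans (card_dvd_of_carrier_eq_mul hY)
    have h2 : ℓ ∣ Nat.card U := by
      obtain ⟨k, hk⟩ := hUp.exists_card_eq
      rw [hk]
      apply dvd_pow_self
      rintro rfl
      rw [pow_zero] at hk
      exact hUne (Subgroup.card_eq_one.mp hk)
    have h3 : (ℓ).Coprime (Nat.card A) := by
      rw [Nat.Prime.coprime_iff_not_dvd hℓ]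
      intro hd
      exact c.symm.not_dvd_K hℓ hℓK (hd.trans (Subgroup.card_dvd_of_le hAH))
    have h4 : ℓ ∣ Nat.card (sylp K r) := h3.dvd_of_dvd_mul_left (h2.trans h1)
    rw [KW.card_sylp] at h4
    exact (Nat.prime_dvd_prime_iff_eq hℓ hr).mp (hℓ.dvd_of_dvd_pow h4)
  have hUle : U ≤ sylp K r := by
    obtain ⟨P, hP⟩ := (IsPGroup.comap_subtype (isPGroup_sylp K r) (K := Y)).exists_le_sylow
    have hPm : (P : Subgroup Y).map Y.subtype = sylp K r := by
      apply c.symm.eq_sylp_of_le hrK (P.2.map _)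
      intro a ha
      exact ⟨⟨a, hBY ha⟩, hP (by rw [Subgroup.mem_comap]; exact ha), rfl⟩
    rw [← hPm]
    have hMp' : IsPGroup r M₀ := hℓr ▸ hMp
    exact Subgroup.map_mono (hMp'.le_sylow_of_normal P)
  have hKU : K ≤ Subgroup.normalizer (U : Set G) := by
    intro k hk
    obtain ⟨u, v, hu, hv, hvc, rfl⟩ := exists_decomp c.nilK r hk
    apply Subgroup.mul_mem _ (hYU (hBY hu))
    apply mem_normalizer_of_conj_le
    intro b hb
    rw [hvc b (hUle hb), mul_inv_cancel_right]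
    exact hb
  have hNne : Subgroup.normalizer (U : Set G) ≠ ⊤ :=
    c.normalizer_ne_top hUne
      (fun h => c.symm.ne_top_H (top_le_iff.mp (h ▸ hUle.trans (sylp_le K r))))
  exact (hAY.trans hYU).trans (c.symm.le_normalizer_of_le hNne hKU)

theorem Cfg.centralizer_le_normalizer_of_prime (c : Cfg H K) {w : G} {s : ℕ} [hs : Fact s.Prime]
    (hwK : w ∈ K) (hwN : w ∈ Subgroup.normalizer (H : Set G)) (hws : orderOf w = s) :
    Subgroup.centralizer ({w} : Set G) ⊓ H ≤ Subgroup.normalizer (K : Set G) :=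
  le_of_forall_sylp_le (fun p _ hp => c.sylp_centralizer_le hwK hwN hws p hp)

/-- Lemma F: for `1 ≠ w ∈ K ∩ N_G(H)`, `C_H(w)` normalizes `K`. -/
theorem Cfg.centralizer_le_normalizer (c : Cfg H K) {w : G}
    (hwK : w ∈ K) (hwN : w ∈ Subgroup.normalizer (H : Set G)) (hw1 : w ≠ 1) :
    Subgroup.centralizer ({w} : Set G) ⊓ H ≤ Subgroup.normalizer (K : Set G) := by
  have ho : orderOf w ≠ 1 := by rwa [Ne, orderOf_eq_one_iff]
  obtain ⟨s, hs, hsd⟩ := Nat.exists_prime_and_dvd ho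
  have : Fact s.Prime := ⟨hs⟩
  have hw' : orderOf (w ^ (orderOf w / s)) = s :=
    orderOf_pow_orderOf_div (orderOf_pos w).ne' hsd
  refine le_trans ?_ (c.centralizer_le_normalizer_of_prime (Subgroup.pow_mem _ hwK _)
    (Subgroup.pow_mem _ hwN _) hw')
  apply inf_le_inf_right
  intro g hg
  rw [Subgroup.mem_centralizer_singleton_iff] at hg ⊢
  exact ((Commute.pow_right (show Commute g w from hg) _)).eq

end Cfsg.Agent.Helper90.KW
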