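import Cfsg.Agent.Lib.Helper90.KW.Star

set_option autoImplicit false
set_option linter.unusedSectionVars false

/-!
# Kegel–Wielandt: normalizers of the primary parts
-/

namespace Cfsg.Agent.Helper90.KW

open scoped Pointwise

variable {G : Type*} [Group G] [Finite G] {H K : Subgroup G}

theorem le_of_forall_sylp_le {H L : Subgroup G}
    (h : ∀ (p : ℕ) [Fact p.Prime], p ∣ Nat.card H → sylp H p ≤ L) : H ≤ L := by
  have h1 : H ⊓ L = H := by
    apply Subgroup.eq_of_le_of_card_ge inf_le_left
    apply Nat.le_of_dvd Nat.card_pos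
    rw [← Nat.factorization_prime_le_iff_dvd Nat.card_pos.ne' Nat.card_pos.ne']
    intro p hp
    have : Fact p.Prime := ⟨hp⟩
    by_cases hdvd : p ∣ Nat.card H
    · have h2 : sylp H p ≤ H ⊓ L := le_inf (sylp_le H p) (h p hdvd)
      have h3 := Subgroup.card_dvd_of_le h2
      rw [KW.card_sylp] at h3
      exact (hp.pow_dvd_iff_le_factorization Nat.card_pos.ne').mp h3
    · rw [Nat.factorization_eq_zero_of_not_dvd hdvd]
      exact Nat.zero_le _
  rw [← h1]
  exact inf_le_right

theorem Cfg.index_H (c : Cfg H K) : H.index = Nat.card K := c.symm.index_K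

/-- every element of prime power order `r ^ k`, `r ∣ |K|`, lies in a conjugate of the `r`-part -/
theorem Cfg.exists_conj_sylp_K (c : Cfg H K) {r : ℕ} [hr : Fact r.Prime] (hrk : r ∣ Nat.card K)
    {b : G} {k : ℕ} (hb : orderOf b = r ^ k) : ∃ y : G, b ∈ MulAut.conj y • sylp K r := by
  obtain ⟨y, hy⟩ := Cfsg.Agent.S0581.result K (Subgroup.zpowers b) c.nilK
    (by rw [c.index_K]; exact c.cop.symm) (by
      intro p hp hpb
      rw [Nat.card_zpowers, hb] at hpb
      have := (Nat.prime_dvd_prime_iff_eq hp hr.out).mp (hp.dvd_of_dvd_pow hpb)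
      rw [this]; exact hrk)
  refine ⟨y, ?_⟩
  rw [← sylp_conj c.nilK, mem_sylp (isNilpotent_conj c.nilK y)]
  exact ⟨hy (Subgroup.mem_zpowers b), k, hb⟩

/-- the centralizer of the `t`-part of `H` has order prime to `|K|` -/
theorem Cfg.coprime_card_centralizer_sylp (c : Cfg H K) {t : ℕ} [ht : Fact t.Prime]
    (hth : t ∣ Nat.card H) :
    (Nat.card (Subgroup.centralizer (sylp H t : Set G))).Coprime (Nat.card K) := by
  apply Nat.coprime_of_dvd
  intro r hr hrC hrK
  have : Fact r.Prime := ⟨hr⟩
  obtain ⟨b, hb⟩ := exists_prime_orderOf_dvd_card' (G := Subgroup.centralizer (sylp H t : Set G))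
    r hrC
  have hb' : orderOf (b : G) = r ^ 1 := by rw [pow_one, ← hb, Subgroup.orderOf_coe]
  obtain ⟨y, hy⟩ := c.exists_conj_sylp_K hrK hb'
  obtain ⟨r', hr', hne, hr'K⟩ := c.twoK r hr hrK
  have : Fact r'.Prime := ⟨hr'⟩
  have hb1 : (b : G) ≠ 1 := by
    intro h
    rw [h, orderOf_one] at hb'
    rw [pow_one] at hb'
    exact hr.one_lt.ne' hb'.symm
  have htop := c.star hth hr'K 1 y (Subgroup.centralizer ({(b : G)} : Set G)) (by
    rw [map_one, one_smul]
    intro a ha
    rw [Subgroup.mem_centralizer_singleton_iff]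
    exact (Subgroup.mem_centralizer_iff.mp b.2 a ha)) (by
    rw [← sylp_conj c.nilK] at hy ⊢
    exact sylp_le_centralizer_of_mem (isNilpotent_conj c.nilK y) hne.symm hy)
  exact c.centralizer_ne_top hb1 htop

/-- an element normalizing one primary part of `H` normalizes them all -/
theorem Cfg.normalizer_sylp_le (c : Cfg H K) {t p : ℕ} [ht : Fact t.Prime] [hp : Fact p.Prime]
    (hth : t ∣ Nat.card H) (hph : p ∣ Nat.card H) :
    Subgroup.normalizer (sylp H t : Set G) ≤ Subgroup.normalizer (sylp H p : Set G) := by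
  by_cases hpt : p = t
  · subst hpt; exact le_rfl
  intro g hg
  -- the centralizer of the `t`-part is a `π`-group, hence inside a conjugate of `H`
  obtain ⟨y, hy⟩ := Cfsg.Agent.S0581.result H (Subgroup.centralizer (sylp H t : Set G)) c.nilH
    (by rw [c.index_H]; exact c.cop) (by
      intro q hq hqC
      have h1 : q ∣ Nat.card G := hqC.trans (Subgroup.card_subgroup_dvd_card _)
      rw [c.card_eq] at h1
      rcases (Nat.Prime.dvd_mul hq).mp h1 with h | h
      · exact h
      · exfalso
        have := Nat.dvd_gcd hqC h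
        rw [c.coprime_card_centralizer_sylp hth] at this
        exact hq.one_lt.ne' (Nat.dvd_one.mp this))
  have hnil := isNilpotent_conj c.nilH y
  have h1 : sylp H p ≤ Subgroup.centralizer (sylp H t : Set G) :=
    sylp_le_centralizer_sylp c.nilH hpt
  have hcard : Nat.card (sylp (MulAut.conj y • H) p) = Nat.card (sylp H p) := by
    rw [KW.card_sylp, KW.card_sylp, card_conj]
  -- `sylp H p` is the `p`-part of the conjugate of `H`
  have h2 : sylp H p = sylp (MulAut.conj y • H) p :=
    Subgroup.eq_of_le_of_card_ge (le_sylp hnil (h1.trans hy) (isPGroup_sylp H p)) hcard.le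
  apply mem_normalizer_of_conj_le
  intro a ha
  -- the conjugate still centralizes the `t`-part
  have h3 : g * a * g⁻¹ ∈ Subgroup.centralizer (sylp H t : Set G) := by
    rw [Subgroup.mem_centralizer_iff]
    intro b hb
    have hb' : g⁻¹ * b * g ∈ sylp H t := conj_mem_of_mem_normalizer' hg hb
    have := commute_sylp c.nilH hpt ha hb'
    calc b * (g * a * g⁻¹) = g * ((g⁻¹ * b * g) * a) * g⁻¹ := by group
      _ = g * (a * (g⁻¹ * b * g)) * g⁻¹ := by rw [this]
      _ = g * a * g⁻¹ * b := by group
  rw [h2, mem_sylp hnil]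
  refine ⟨hy h3, ?_⟩
  rw [orderOf_conj]
  exact ((mem_sylp c.nilH).mp ha).2

/-- Lemma E: the normalizer of a primary part of `H` is the normalizer of `H`. -/
theorem Cfg.normalizer_sylp_eq (c : Cfg H K) {t : ℕ} [ht : Fact t.Prime] (hth : t ∣ Nat.card H) :
    Subgroup.normalizer (sylp H t : Set G) = Subgroup.normalizer (H : Set G) := by
  apply le_antisymm _ (normalizer_le_normalizer_sylp c.nilH t)
  intro g hg
  apply mem_normalizer_of_conj_le
  have hle : H ≤ MulAut.conj g⁻¹ • H := by
    apply le_of_forall_sylp_le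
    intro p _ hph a ha
    rw [mem_conj, inv_inv]
    exact sylp_le H p (conj_mem_of_mem_normalizer (c.normalizer_sylp_le hth hph hg) ha)
  intro a ha
  have := hle ha
  rwa [mem_conj, inv_inv] at this

end Cfsg.Agent.Helper90.KW
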