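import Cfsg.Agent.Lib.Helper90.KW.Norm
import Cfsg.Agent.Lib.Helper54.Solv

set_option autoImplicit false
set_option linter.unusedSectionVars false

/-!
# Kegel–Wielandt: proper overgroups of `H` normalize `H` (Lemma N)
-/

namespace Cfsg.Agent.Helper90.KW

open scoped Pointwise

variable {G : Type*} [Group G] [Finite G] {H K : Subgroup G}

/-- decomposition of an element of a nilpotent subgroup into its `t`-part and a part centralizing
the Sylow `t`-subgroup -/
theorem exists_decomp {H : Subgroup G} (hH : Group.IsNilpotent H) (t : ℕ) [ht : Fact t.Prime]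
    {h : G} (hh : h ∈ H) :
    ∃ u v : G, u ∈ sylp H t ∧ v ∈ H ∧ (∀ a ∈ sylp H t, v * a = a * v) ∧ h = u * v := by
  obtain ⟨m, s, hms, h1, h2, hmt⟩ := exists_pPart_exponent t h
  have hb := Int.gcd_eq_gcd_ab (m : ℤ) ((t ^ s : ℕ) : ℤ)
  rw [Int.gcd_natCast_natCast, hms, Nat.cast_one] at hb
  refine ⟨(h ^ m) ^ (Int.gcdA (m : ℤ) ((t ^ s : ℕ) : ℤ)),
    (h ^ (t ^ s)) ^ (Int.gcdB (m : ℤ) ((t ^ s : ℕ) : ℤ)), ?_, ?_, ?_, ?_⟩
  · apply Subgroup.zpow_mem
    rw [mem_sylp hH]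
    exact ⟨H.pow_mem hh m, orderOf_eq_prime_pow_of_pow_eq_one h1⟩
  · exact Subgroup.zpow_mem _ (H.pow_mem hh _) _
  · intro a ha
    rw [mem_sylp hH] at ha
    obtain ⟨haH, k, hk⟩ := ha
    have hw : h ^ (t ^ s) ∈ H := H.pow_mem hh _
    have hco : (orderOf (⟨h ^ (t ^ s), hw⟩ : H)).Coprime (orderOf (⟨a, haH⟩ : H)) := by
      rw [Subgroup.orderOf_mk, Subgroup.orderOf_mk, hk]
      apply Nat.Coprime.pow_right
      exact Nat.Coprime.coprime_dvd_left (orderOf_dvd_of_pow_eq_one h2) hmt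
    have hc := commute_of_coprime_orderOf H ⟨h ^ (t ^ s), hw⟩ ⟨a, haH⟩ hco
    have hc' : Commute (h ^ (t ^ s)) a := by
      have := congrArg Subtype.val hc.eq
      exact this
    exact (hc'.zpow_left _).eq
  · rw [← zpow_natCast h m, ← zpow_natCast h (t ^ s), ← zpow_mul, ← zpow_mul, ← zpow_add, ← hb,
      zpow_one]

/-- the order of a factorized subgroup -/
theorem Cfg.card_of_fac (c : Cfg H K) (L : Subgroup G)
    (hfac : ∀ g ∈ L, ∃ h ∈ L ⊓ H, ∃ k ∈ L ⊓ K, g = h * k) :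
    Nat.card L = Nat.card (L ⊓ H : Subgroup G) * Nat.card (L ⊓ K : Subgroup G) := by
  have h1 := Cfsg.Agent.Helper10.card_set_mul_mul_card_inf (L ⊓ H) (L ⊓ K)
  have h2 : (L ⊓ H) ⊓ (L ⊓ K) = ⊥ := by
    rw [eq_bot_iff, ← c.inf_eq_bot]
    exact inf_le_inf inf_le_right inf_le_right
  rw [h2, Subgroup.card_bot, mul_one] at h1
  rw [← h1]
  have : (((L ⊓ H : Subgroup G) : Set G) * ((L ⊓ K : Subgroup G) : Set G) : Set G) = (L : Set G) := by
    ext g
    constructor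
    · intro hg
      obtain ⟨a, ha, b, hb, rfl⟩ := Set.mem_mul.mp hg
      exact L.mul_mem ha.1 hb.1
    · intro hg
      obtain ⟨h, hh, k, hk, rfl⟩ := hfac g hg
      exact Set.mul_mem_mul hh hk
  rw [this]
  rfl

theorem Cfg.fac_of_le (c : Cfg H K) {X : Subgroup G} (hHX : H ≤ X) :
    ∀ g ∈ X, ∃ h ∈ X ⊓ H, ∃ k ∈ X ⊓ K, g = h * k := by
  intro g hg
  obtain ⟨h, hh, k, hk, rfl⟩ := c.prod g
  refine ⟨h, ⟨hHX hh, hh⟩, k, ⟨?_, hk⟩, rfl⟩
  have : k = h⁻¹ * (h * k) := by group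
  rw [this]
  exact X.mul_mem (X.inv_mem (hHX hh)) hg

/-- `sylp H t` is a maximal `t`-subgroup of `G` -/
theorem Cfg.eq_sylp_of_le (c : Cfg H K) {t : ℕ} [ht : Fact t.Prime] (hth : t ∣ Nat.card H)
    {Q : Subgroup G} (hQ : IsPGroup t Q) (hle : sylp H t ≤ Q) : Q = sylp H t := by
  symm
  apply Subgroup.eq_of_le_of_card_ge hle
  obtain ⟨k, hk⟩ := hQ.exists_card_eq
  rw [hk, c.card_sylp hth]
  apply Nat.pow_le_pow_right ht.out.pos
  apply (Nat.Prime.pow_dvd_iff_le_factorization ht.out Nat.card_pos.ne').mp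
  rw [← hk]
  exact Subgroup.card_subgroup_dvd_card Q

theorem Cfg.card_H_ne_one (c : Cfg H K) : Nat.card H ≠ 1 := by
  intro h
  apply c.symm.ne_top_H
  apply Subgroup.eq_top_of_card_eq
  rw [c.card_eq, h, one_mul]

theorem Cfg.exists_two_primes (c : Cfg H K) :
    ∃ t p : ℕ, t.Prime ∧ p.Prime ∧ p ≠ t ∧ t ∣ Nat.card H ∧ p ∣ Nat.card H := by
  obtain ⟨t, ht, htH⟩ := Nat.exists_prime_and_dvd c.card_H_ne_one
  obtain ⟨p, hp, hpt, hpH⟩ := c.twoH t ht htH
  exact ⟨t, p, ht, hp, hpt, htH, hpH⟩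

/-- the key subgroup `A = O_t(H_t (X ∩ K))` for a proper overgroup `X` of `H` -/
theorem Cfg.exists_core (c : Cfg H K) {X : Subgroup G} (hX : X ≠ ⊤) (hHX : H ≤ X)
    {t : ℕ} [ht : Fact t.Prime] (hth : t ∣ Nat.card H) :
    ∃ A : Subgroup G, A ≤ sylp H t ∧ (∀ x ∈ X, ∀ a ∈ A, x * a * x⁻¹ ∈ A) ∧
      (∀ z ∈ X, (∀ a ∈ A, z * a = a * z) → z ∈ H) := by
  have hfac := c.fac_of_le hHX
  have hXH : X ⊓ H = H := inf_eq_right.mpr hHX
  have hTX : sylp H t ≤ X := (sylp_le H t).trans hHX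
  have hcardX := c.card_of_fac X hfac
  obtain ⟨Y, hYX, hY⟩ := c.perm X hX hfac (sylp H t) (X ⊓ K)
    (le_inf hTX (sylp_le H t)) (inf_le_right.trans (sylp_normal_in c.nilH t))
    (coprime_relIndex_of_coprime_index hTX (c.coprime_index_sylp hth))
    le_rfl Subgroup.le_normalizer
    (by
      have h1 := ((X ⊓ K).subgroupOf X).card_mul_index
      rw [card_subgroupOf_of_le inf_le_left, hcardX, hXH] at h1
      have h2 : (X ⊓ K).relIndex X = Nat.card H := by
        unfold Subgroup.relIndex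
        exact Nat.eq_of_mul_eq_mul_left Nat.card_pos (h1.trans (mul_comm _ _))
      rw [h2]
      exact (Nat.Coprime.coprime_dvd_left (Subgroup.card_dvd_of_le inf_le_right) c.cop.symm))
  have hYne : Y ≠ ⊤ := fun h => hX (top_le_iff.mp (h ▸ hYX))
  have hmemY : ∀ {a b : G}, a ∈ sylp H t → b ∈ X ⊓ K → a * b ∈ Y := by
    intro a b ha hb
    have : a * b ∈ (Y : Set G) := by rw [hY]; exact Set.mul_mem_mul ha hb
    exact this
  have hTY : sylp H t ≤ Y := by
    intro a ha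
    have := hmemY ha (Subgroup.one_mem _)
    rwa [mul_one] at this
  have hKY : X ⊓ K ≤ Y := by
    intro a ha
    have := hmemY (Subgroup.one_mem _) ha
    rwa [one_mul] at this
  have hsolY : Group.IsSolvable Y := c.ih Y (sylp H t) (X ⊓ K) hYne hTY hKY
    (isNilpotent_of_le c.nilH (sylp_le H t)) (isNilpotent_of_le c.nilK inf_le_right)
    (Nat.Coprime.coprime_dvd_left (Subgroup.card_dvd_of_le (sylp_le H t))
      (Nat.Coprime.coprime_dvd_right (Subgroup.card_dvd_of_le inf_le_right) c.cop))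
    (by
      intro g hg
      have : g ∈ (Y : Set G) := hg
      rw [hY] at this
      obtain ⟨a, ha, b, hb, rfl⟩ := Set.mem_mul.mp this
      exact ⟨a, ha, b, hb, rfl⟩)
  have hbot : Cfsg.pPrimeCore t Y = ⊥ := by
    have hmem := Cfsg.Agent.Helper54.pPrimeCore_mem (G := Y) t
    have hU := c.eq_bot_of_normalized hth 1 ((Cfsg.pPrimeCore t Y).map Y.subtype) ?_ ?_
    · exact (Subgroup.map_eq_bot_iff_of_injective _ Y.subtype_injective).mp hU
    · rw [Subgroup.card_map_of_injective Y.subtype_injective]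
      have h1 : Nat.card (Cfsg.pPrimeCore t Y) ∣ Nat.card Y := Subgroup.card_subgroup_dvd_card _
      have h2 := card_dvd_of_carrier_eq_mul hY
      have h3 : Nat.card (Cfsg.pPrimeCore t Y) ∣ Nat.card (X ⊓ K : Subgroup G) := by
        have h4 := h1.trans h2
        rw [KW.card_sylp] at h4
        exact (Nat.Coprime.pow_right _ hmem.2).dvd_of_dvd_mul_left h4
      exact Nat.Coprime.coprime_dvd_left (h3.trans (Subgroup.card_dvd_of_le inf_le_right))
        c.cop.symm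
    · rw [map_one, one_smul]
      intro a ha
      apply mem_normalizer_of_conj_le
      rintro _ ⟨u, hu, rfl⟩
      exact ⟨⟨a, hTY ha⟩ * u * ⟨a, hTY ha⟩⁻¹, hmem.1.conj_mem u hu _, rfl⟩
  have hcent := Cfsg.Agent.Helper54.centralizer_pCore_le (G := Y) t hbot
  have hpn : (Cfsg.pCore t Y).Normal := Subgroup.sSup_normal _ fun _ h => h.1
  have hA_le : (Cfsg.pCore t Y).map Y.subtype ≤ sylp H t := by
    obtain ⟨P, hP⟩ := (IsPGroup.comap_subtype (isPGroup_sylp H t) (K := Y)).exists_le_sylow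
    have hPm : (P : Subgroup Y).map Y.subtype = sylp H t := by
      apply c.eq_sylp_of_le hth (P.2.map _)
      intro a ha
      exact ⟨⟨a, hTY ha⟩, hP (by rw [Subgroup.mem_comap]; exact ha), rfl⟩
    rw [← hPm]
    exact Subgroup.map_mono (Cfsg.Agent.Helper54.pCore_le_sylow P)
  refine ⟨(Cfsg.pCore t Y).map Y.subtype, hA_le, ?_, ?_⟩
  · intro x hx a ha
    obtain ⟨h, hh, k, hk, rfl⟩ := hfac x hx
    obtain ⟨u, v, hu, hv, hvc, rfl⟩ := exists_decomp c.nilH t hh.2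
    have hy : u * k ∈ Y := hmemY hu hk
    obtain ⟨b, hb, rfl⟩ := ha
    have h3 := hvc u hu
    have hconj : ((⟨u * k, hy⟩ : Y) * b * (⟨u * k, hy⟩ : Y)⁻¹) ∈ Cfsg.pCore t Y :=
      hpn.conj_mem b hb _
    have hb'A : (u * k * (b : G) * (u * k)⁻¹ : G) ∈ (Cfsg.pCore t Y).map Y.subtype :=
      ⟨_, hconj, rfl⟩
    have h4 := hvc _ (hA_le hb'A)
    have e : u * v * k * (Y.subtype b) * (u * v * k)⁻¹ = v * (u * k * (b : G) * (u * k)⁻¹) * v⁻¹ := by
      rw [← h3]
      simp only [Subgroup.coe_subtype]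
      group
    rw [e, h4, mul_inv_cancel_right]
    exact hb'A
  · intro z hz hcomm
    obtain ⟨h, hh, k, hk, rfl⟩ := hfac z hz
    obtain ⟨u, v, hu, hv, hvc, rfl⟩ := exists_decomp c.nilH t hh.2
    have hy : u * k ∈ Y := hmemY hu hk
    have h3 := hvc u hu
    have e : u * k = v⁻¹ * (u * v * k) := by rw [← h3]; group
    have hyc : (⟨u * k, hy⟩ : Y) ∈ Subgroup.centralizer (Cfsg.pCore t Y : Set Y) := by
      rw [Subgroup.mem_centralizer_iff]
      intro b hb
      apply Subtype.ext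
      have hbA : (b : G) ∈ (Cfsg.pCore t Y).map Y.subtype := ⟨b, hb, rfl⟩
      have cz : Commute (b : G) (u * v * k) := (hcomm b hbA).symm
      have cv : Commute (b : G) v := (hvc b (hA_le hbA)).symm
      show (b : G) * (u * k) = u * k * b
      rw [e]
      exact (cv.inv_right.mul_right cz).eq
    have h5 := hcent hyc
    have h6 : u * k ∈ H := sylp_le H t (hA_le ⟨_, h5, rfl⟩)
    have e2 : u * v * k = v * (u * k) := by rw [← h3, mul_assoc]
    rw [e2]
    exact H.mul_mem hv h6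

/-- Lemma N: every proper subgroup containing `H` normalizes `H`. -/
theorem Cfg.le_normalizer_of_le (c : Cfg H K) {X : Subgroup G} (hX : X ≠ ⊤) (hHX : H ≤ X) :
    X ≤ Subgroup.normalizer (H : Set G) := by
  obtain ⟨t, p, ht, hp, hpt, hth, hph⟩ := c.exists_two_primes
  have : Fact t.Prime := ⟨ht⟩
  have : Fact p.Prime := ⟨hp⟩
  obtain ⟨A, hA, hAn, hAc⟩ := c.exists_core hX hHX hth
  rw [← c.normalizer_sylp_eq hph]
  intro x hx
  apply mem_normalizer_of_conj_le
  intro a ha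
  have haH := sylp_le H p ha
  have hmem : x * a * x⁻¹ ∈ H := by
    apply hAc _ (X.mul_mem (X.mul_mem hx (hHX haH)) (X.inv_mem hx))
    intro b hb
    have hb' : x⁻¹ * b * x ∈ A := by
      have := hAn x⁻¹ (X.inv_mem hx) b hb
      simpa using this
    have hcm := commute_sylp c.nilH hpt ha (hA hb')
    calc x * a * x⁻¹ * b = x * (a * (x⁻¹ * b * x)) * x⁻¹ := by group
      _ = x * ((x⁻¹ * b * x) * a) * x⁻¹ := by rw [hcm]
      _ = b * (x * a * x⁻¹) := by group
  rw [mem_sylp c.nilH]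
  refine ⟨hmem, ?_⟩
  rw [orderOf_conj]
  exact ((mem_sylp c.nilH).mp ha).2

end Cfsg.Agent.Helper90.KW
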