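import Cfsg.Agent.Lib.Helper90.KW.Cfg

set_option autoImplicit false
set_option linter.unusedSectionVars false

/-!
# Kegel–Wielandt: permutability in proper factorized subgroups and the generation property (★)
-/

namespace Cfsg.Agent.Helper90.KW

open scoped Pointwise

variable {G : Type*} [Group G] [Finite G] {H K : Subgroup G}

theorem card_subgroupOf_of_le {A L : Subgroup G} (h : A ≤ L) :
    Nat.card (A.subgroupOf L) = Nat.card A :=
  Nat.card_congr (Subgroup.subgroupOfEquivOfLe h).toEquiv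

/-- proper factorized subgroups are solvable -/
theorem Cfg.solvable_of_fac (c : Cfg H K) (L : Subgroup G) (hL : L ≠ ⊤)
    (hfac : ∀ g ∈ L, ∃ h ∈ L ⊓ H, ∃ k ∈ L ⊓ K, g = h * k) : Group.IsSolvable L :=
  c.ih L (L ⊓ H) (L ⊓ K) hL inf_le_left inf_le_left
    (isNilpotent_of_le c.nilH inf_le_right) (isNilpotent_of_le c.nilK inf_le_right)
    (Nat.Coprime.coprime_dvd_left (Subgroup.card_dvd_of_le inf_le_right)
      (Nat.Coprime.coprime_dvd_right (Subgroup.card_dvd_of_le inf_le_right) c.cop)) hfac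

/-- In a proper factorized subgroup `L`, normal Hall subgroups of the two factors permute. -/
theorem Cfg.perm (c : Cfg H K) (L : Subgroup G) (hL : L ≠ ⊤)
    (hfac : ∀ g ∈ L, ∃ h ∈ L ⊓ H, ∃ k ∈ L ⊓ K, g = h * k)
    (A B : Subgroup G) (hA : A ≤ L ⊓ H) (hAn : L ⊓ H ≤ Subgroup.normalizer (A : Set G))
    (hAh : (Nat.card A).Coprime (A.relIndex L))
    (hB : B ≤ L ⊓ K) (hBn : L ⊓ K ≤ Subgroup.normalizer (B : Set G))
    (hBh : (Nat.card B).Coprime (B.relIndex L)) :
    ∃ S : Subgroup G, S ≤ L ∧ (S : Set G) = (A : Set G) * (B : Set G) := by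
  have hsol : Group.IsSolvable L := c.solvable_of_fac L hL hfac
  have hAL : A ≤ L := hA.trans inf_le_left
  have hBL : B ≤ L := hB.trans inf_le_left
  obtain ⟨S', hS'⟩ := Cfsg.Agent.S0561.result (G := L) ((L ⊓ H).subgroupOf L)
    ((L ⊓ K).subgroupOf L) (A.subgroupOf L) (B.subgroupOf L)
    (by
      intro g
      obtain ⟨h, hh, k, hk, e⟩ := hfac g.1 g.2
      refine ⟨⟨h, hh.1⟩, ?_, ⟨k, hk.1⟩, ?_, ?_⟩
      · rw [Subgroup.mem_subgroupOf]; exact hh
      · rw [Subgroup.mem_subgroupOf]; exact hk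
      · exact Subtype.ext e)
    (by
      intro x hx
      rw [Subgroup.mem_subgroupOf] at hx ⊢
      exact hA hx)
    (by
      refine ⟨fun n hn g => ?_⟩
      rw [Subgroup.mem_subgroupOf, Subgroup.mem_subgroupOf] at hn ⊢
      have hg : ((g : L) : G) ∈ L ⊓ H := by
        have := g.2
        rwa [Subgroup.mem_subgroupOf] at this
      exact conj_mem_of_mem_normalizer (hAn hg) hn)
    (by
      intro x hx
      rw [Subgroup.mem_subgroupOf] at hx ⊢
      exact hB hx)
    (by
      refine ⟨fun n hn g => ?_⟩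
      rw [Subgroup.mem_subgroupOf, Subgroup.mem_subgroupOf] at hn ⊢
      have hg : ((g : L) : G) ∈ L ⊓ K := by
        have := g.2
        rwa [Subgroup.mem_subgroupOf] at this
      exact conj_mem_of_mem_normalizer (hBn hg) hn)
    (by rw [card_subgroupOf_of_le hAL]; exact hAh)
    (by rw [card_subgroupOf_of_le hBL]; exact hBh) 1 1
  simp only [map_one, one_smul] at hS'
  refine ⟨S'.map L.subtype, Subgroup.map_subtype_le S', ?_⟩
  ext g
  constructor
  · rintro ⟨g', hg', rfl⟩
    have : g' ∈ (S' : Set L) := hg'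
    rw [hS'] at this
    obtain ⟨a, ha, b, hb, rfl⟩ := Set.mem_mul.mp this
    exact Set.mul_mem_mul (Subgroup.mem_subgroupOf.mp ha) (Subgroup.mem_subgroupOf.mp hb)
  · intro hg
    obtain ⟨a, ha, b, hb, rfl⟩ := Set.mem_mul.mp hg
    refine ⟨⟨a, hAL ha⟩ * ⟨b, hBL hb⟩, ?_, rfl⟩
    have : (⟨a, hAL ha⟩ * ⟨b, hBL hb⟩ : L) ∈ (S' : Set L) := by
      rw [hS']
      exact Set.mul_mem_mul (Subgroup.mem_subgroupOf.mpr ha) (Subgroup.mem_subgroupOf.mpr hb)
    exact this

/-- a full Sylow subgroup of `G` inside `L` is a Hall subgroup of `L` -/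
theorem coprime_relIndex_of_coprime_index {A L : Subgroup G} (hAL : A ≤ L)
    (h : (Nat.card A).Coprime A.index) : (Nat.card A).Coprime (A.relIndex L) :=
  Nat.Coprime.coprime_dvd_right (Dvd.intro _ (Subgroup.relIndex_mul_index hAL)) h

theorem Cfg.coprime_index_sylp (c : Cfg H K) {t : ℕ} [ht : Fact t.Prime] (h : t ∣ Nat.card H) :
    (Nat.card (sylp H t)).Coprime (sylp H t).index := by
  have h1 := c.card_sylp h
  have h2 := (sylp H t).card_mul_index
  rw [h1] at h2 ⊢
  apply Nat.Coprime.pow_left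
  have h3 : (sylp H t).index = Nat.card G / t ^ (Nat.card G).factorization t := by
    exact (Nat.div_eq_of_eq_mul_right (pow_pos ht.out.pos _) h2.symm).symm
  rw [h3]
  exact Nat.coprime_ordCompl ht.out Nat.card_pos.ne'

theorem Cfg.sylp_normal_subgroupOf (c : Cfg H K) (t : ℕ) [Fact t.Prime] :
    ((sylp H t).subgroupOf H).Normal :=
  (Subgroup.normal_subgroupOf_iff_le_normalizer (sylp_le H t)).mpr (sylp_normal_in c.nilH t)

/-- the order of a subgroup whose carrier is a product `A * B` divides `|A| * |B|` -/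
theorem card_dvd_of_carrier_eq_mul {S A B : Subgroup G} (h : (S : Set G) = (A : Set G) * (B : Set G)) :
    Nat.card S ∣ Nat.card A * Nat.card B := by
  have h1 := Cfsg.Agent.Helper10.card_set_mul_mul_card_inf A B
  rw [← h] at h1
  exact Dvd.intro _ h1

/-- (★), basic form: no proper subgroup contains the `t`-part of `H` and the `r`-part of `K`. -/
theorem Cfg.star0 (c : Cfg H K) {t r : ℕ} [ht : Fact t.Prime] [hr : Fact r.Prime]
    (hth : t ∣ Nat.card H) (hrk : r ∣ Nat.card K) (L : Subgroup G)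
    (hT : sylp H t ≤ L) (hR : sylp K r ≤ L) : L = ⊤ := by
  by_contra hL
  have hAne : sylp H t ≠ ⊥ := sylp_ne_bot hth
  have hBne : sylp K r ≠ ⊥ := sylp_ne_bot hrk
  have hTL : sylp H t ⊔ sylp K r ≤ L := sup_le hT hR
  have hTne_top : sylp H t ⊔ sylp K r ≠ ⊤ := fun h => hL (top_le_iff.mp (h ▸ hTL))
  have hTne_bot : sylp H t ⊔ sylp K r ≠ ⊥ := fun h => hAne (le_bot_iff.mp (h ▸ le_sup_left))
  have hN := c.normalizer_ne_top hTne_bot hTne_top
  have hfac := Cfsg.Agent.S0562.result H K (sylp H t) (sylp K r) c.prod (sylp_le H t)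
    (c.sylp_normal_subgroupOf t) (sylp_le K r) (c.symm.sylp_normal_subgroupOf r)
  have hAN : sylp H t ≤ Subgroup.normalizer ((sylp H t ⊔ sylp K r : Subgroup G) : Set G) :=
    le_sup_left.trans Subgroup.le_normalizer
  have hBN : sylp K r ≤ Subgroup.normalizer ((sylp H t ⊔ sylp K r : Subgroup G) : Set G) :=
    le_sup_right.trans Subgroup.le_normalizer
  obtain ⟨S, -, hS⟩ := c.perm _ hN hfac (sylp H t) (sylp K r)
    (le_inf hAN (sylp_le H t)) (inf_le_right.trans (sylp_normal_in c.nilH t))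
    (coprime_relIndex_of_coprime_index hAN (c.coprime_index_sylp hth))
    (le_inf hBN (sylp_le K r)) (inf_le_right.trans (sylp_normal_in c.nilK r))
    (coprime_relIndex_of_coprime_index hBN (c.symm.coprime_index_sylp hrk))
  -- another prime
  obtain ⟨q, hq, hqt, hqH⟩ := c.twoH t ht.out hth
  have hqr : q ≠ r := by
    rintro rfl
    exact c.not_dvd_K hq hqH hrk
  -- all conjugates permute
  obtain ⟨N, hNn, hNtop, hNle⟩ := Cfsg.Agent.S0566.result (sylp H t) (sylp K r) hAne hBne (by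
    intro x
    obtain ⟨h, hh, k, hk, rfl⟩ := c.prod x
    refine ⟨MulAut.conj h • S, ?_, ?_⟩
    · intro htop
      have h1 : Nat.card (MulAut.conj h • S : Subgroup G) = Nat.card G := by
        rw [htop]; exact Nat.card_congr Subgroup.topEquiv.toEquiv
      rw [card_conj] at h1
      have h2 := card_dvd_of_carrier_eq_mul hS
      rw [h1, KW.card_sylp, KW.card_sylp] at h2
      have h3 : q ∣ Nat.card G := by
        rw [c.card_eq]; exact Dvd.dvd.mul_right hqH _
      have h4 := (Nat.Prime.dvd_mul hq).mp (h3.trans h2)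
      rcases h4 with h4 | h4
      · exact hqt ((Nat.prime_dvd_prime_iff_eq hq ht.out).mp (hq.dvd_of_dvd_pow h4))
      · exact hqr ((Nat.prime_dvd_prime_iff_eq hq hr.out).mp (hq.dvd_of_dvd_pow h4))
    · ext g
      rw [SetLike.mem_coe, mem_conj, ← SetLike.mem_coe, hS]
      constructor
      · intro hg
        obtain ⟨a, ha, b, hb, e⟩ := Set.mem_mul.mp hg
        have e2 : g = (h * a * h⁻¹) * (h * b * h⁻¹) := by
          have : g = h * (h⁻¹ * g * h) * h⁻¹ := by group
          rw [this, ← e]; group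
        rw [e2]
        refine Set.mul_mem_mul (conj_mem_of_mem_normalizer (sylp_normal_in c.nilH t hh) ha) ?_
        rw [SetLike.mem_coe, mem_conj]
        have hkb : k⁻¹ * b * k ∈ sylp K r :=
          conj_mem_of_mem_normalizer' (sylp_normal_in c.nilK r hk) hb
        have : (h * k)⁻¹ * (h * b * h⁻¹) * (h * k) = k⁻¹ * b * k := by group
        rw [this]; exact hkb
      · intro hg
        obtain ⟨a, ha, b, hb, e⟩ := Set.mem_mul.mp hg
        rw [SetLike.mem_coe, mem_conj] at hb
        have hb' : h⁻¹ * b * h ∈ sylp K r := by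
          have h1 := conj_mem_of_mem_normalizer (sylp_normal_in c.nilK r hk) hb
          have : k * ((h * k)⁻¹ * b * (h * k)) * k⁻¹ = h⁻¹ * b * h := by group
          rwa [this] at h1
        have ha' : h⁻¹ * a * h ∈ sylp H t :=
          conj_mem_of_mem_normalizer' (sylp_normal_in c.nilH t hh) ha
        have : h⁻¹ * g * h = (h⁻¹ * a * h) * (h⁻¹ * b * h) := by rw [← e]; group
        rw [this]
        exact Set.mul_mem_mul ha' hb')
  rcases c.simple N hNn with h | h
  · rcases hNle with h' | h'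
    · exact hAne (le_bot_iff.mp (h ▸ h'))
    · exact hBne (le_bot_iff.mp (h ▸ h'))
  · exact hNtop h

/-- (★): no proper subgroup contains a Sylow `t`-subgroup (`t ∣ |H|`) and a Sylow `r`-subgroup
(`r ∣ |K|`) of `G`. -/
theorem Cfg.star (c : Cfg H K) {t r : ℕ} [ht : Fact t.Prime] [hr : Fact r.Prime]
    (hth : t ∣ Nat.card H) (hrk : r ∣ Nat.card K) (x y : G) (L : Subgroup G)
    (hT : MulAut.conj x • sylp H t ≤ L) (hR : MulAut.conj y • sylp K r ≤ L) : L = ⊤ := by
  obtain ⟨-, g, hgH, hgK⟩ := Cfsg.Agent.S0559.result H K (MulAut.conj x • H) (MulAut.conj y • K)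
    c.prod ⟨x, rfl⟩ ⟨y, rfl⟩
  have h1 : MulAut.conj x • sylp H t = MulAut.conj g • sylp H t := by
    rw [← sylp_conj c.nilH, ← sylp_conj c.nilH, hgH]
  have h2 : MulAut.conj y • sylp K r = MulAut.conj g • sylp K r := by
    rw [← sylp_conj c.nilK, ← sylp_conj c.nilK, hgK]
  rw [h1] at hT
  rw [h2] at hR
  have h3 := c.star0 hth hrk (MulAut.conj g⁻¹ • L) (by
    intro a ha
    rw [mem_conj, inv_inv]
    exact hT (conj_mem_conj ha)) (by
    intro a ha
    rw [mem_conj, inv_inv]
    exact hR (conj_mem_conj ha))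
  rw [eq_top_iff]
  intro z _
  have : g⁻¹ * z * g ∈ MulAut.conj g⁻¹ • L := h3 ▸ Subgroup.mem_top _
  rw [mem_conj, inv_inv] at this
  have e : g * (g⁻¹ * z * g) * g⁻¹ = z := by group
  rwa [e] at this

theorem Cfg.index_K (c : Cfg H K) : K.index = Nat.card H := by
  have h1 := K.card_mul_index
  rw [c.card_eq, mul_comm] at h1
  exact Nat.eq_of_mul_eq_mul_right Nat.card_pos h1

/-- No nontrivial subgroup of order prime to `|H|` is normalized by a Sylow `t`-subgroup of `G`
with `t ∣ |H|`. -/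
theorem Cfg.eq_bot_of_normalized (c : Cfg H K) {t : ℕ} [ht : Fact t.Prime] (hth : t ∣ Nat.card H)
    (x : G) (U : Subgroup G) (hU : (Nat.card U).Coprime (Nat.card H))
    (hn : MulAut.conj x • sylp H t ≤ Subgroup.normalizer (U : Set G)) : U = ⊥ := by
  by_contra hne
  have hcard : Nat.card U ≠ 1 := fun h => hne (Subgroup.card_eq_one.mp h)
  obtain ⟨s, hs, hsU⟩ := Nat.exists_prime_and_dvd hcard
  have : Fact s.Prime := ⟨hs⟩
  have hsH : ¬ s ∣ Nat.card H := by
    intro h
    have := Nat.dvd_gcd hsU h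
    rw [hU] at this
    exact hs.one_lt.ne' (Nat.dvd_one.mp this)
  have hdvdK : ∀ p : ℕ, p.Prime → p ∣ Nat.card U → p ∣ Nat.card K := by
    intro p hp hpU
    have h1 : p ∣ Nat.card G := hpU.trans (Subgroup.card_subgroup_dvd_card U)
    rw [c.card_eq] at h1
    rcases (Nat.Prime.dvd_mul hp).mp h1 with h | h
    · exfalso
      have := Nat.dvd_gcd hpU h
      rw [hU] at this
      exact hp.one_lt.ne' (Nat.dvd_one.mp this)
    · exact h
  have hsK : s ∣ Nat.card K := hdvdK s hs hsU
  obtain ⟨y, hy⟩ := Cfsg.Agent.S0581.result K U c.nilK (by rw [c.index_K]; exact c.cop.symm) hdvdK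
  have hnilK' := isNilpotent_conj c.nilK y
  -- the `s`-part of `U`
  have hS0n : Subgroup.normalizer (U : Set G) ≤
      Subgroup.normalizer ((U ⊓ sylp (MulAut.conj y • K) s : Subgroup G) : Set G) := by
    intro z hz
    apply mem_normalizer_of_conj_le
    intro a ha
    rw [Subgroup.mem_inf] at ha ⊢
    refine ⟨conj_mem_of_mem_normalizer hz ha.1, ?_⟩
    have ha2 := ha.2
    rw [mem_sylp hnilK'] at ha2 ⊢
    refine ⟨hy (conj_mem_of_mem_normalizer hz ha.1), ?_⟩
    rw [orderOf_conj]; exact ha2.2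
  have hS0ne : (U ⊓ sylp (MulAut.conj y • K) s : Subgroup G) ≠ ⊥ := by
    obtain ⟨u, hu⟩ := exists_prime_orderOf_dvd_card' (G := U) s hsU
    intro h
    have : (u : G) ∈ (U ⊓ sylp (MulAut.conj y • K) s : Subgroup G) := by
      rw [Subgroup.mem_inf]
      refine ⟨u.2, ?_⟩
      rw [mem_sylp hnilK']
      exact ⟨hy u.2, 1, by rw [pow_one, ← hu, Subgroup.orderOf_coe]⟩
    rw [h, Subgroup.mem_bot] at this
    have h1 : u = 1 := Subtype.ext this
    rw [h1, orderOf_one] at hu
    exact hs.one_lt.ne' hu.symm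
  have hS0top : (U ⊓ sylp (MulAut.conj y • K) s : Subgroup G) ≠ ⊤ := by
    intro h
    have h1 : IsPGroup s (U ⊓ sylp (MulAut.conj y • K) s : Subgroup G) :=
      (isPGroup_sylp _ s).to_le inf_le_right
    rw [h] at h1
    obtain ⟨n, hn⟩ := IsPGroup.iff_card.mp h1
    rw [Nat.card_congr Subgroup.topEquiv.toEquiv] at hn
    have h2 : t ∣ s ^ n := by
      rw [← hn, c.card_eq]; exact Dvd.dvd.mul_right hth _
    have h3 := (Nat.prime_dvd_prime_iff_eq ht.out hs).mp (ht.out.dvd_of_dvd_pow h2)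
    exact hsH (h3 ▸ hth)
  obtain ⟨r, hr, hrs, hrK⟩ := c.twoK s hs hsK
  have : Fact r.Prime := ⟨hr⟩
  have hR : MulAut.conj y • sylp K r ≤
      Subgroup.normalizer ((U ⊓ sylp (MulAut.conj y • K) s : Subgroup G) : Set G) := by
    rw [← sylp_conj c.nilK]
    intro z hz
    apply mem_normalizer_of_conj_le
    intro a ha
    have := commute_sylp hnilK' hrs hz (Subgroup.mem_inf.mp ha).2
    have e : z * a * z⁻¹ = a := by rw [this]; group
    rw [e]; exact ha
  have := c.star hth hrK x y _ (hn.trans hS0n) hR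
  exact c.normalizer_ne_top hS0ne hS0top this

end Cfsg.Agent.Helper90.KW
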